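import Cfsg.Agent.R2.Spec.X2.NonSol_m3
import Cfsg.Agent.R2.Spec.E.IsoRaw_m3
import Cfsg.Agent.R2.Spec.NA.Main_m3
import Cfsg.Agent.R2.Spec.P1.TopTor_m3
import Cfsg.Agent.R2.Spec.F1.ExcFrm_m3
import Cfsg.Agent.R2.Spec.F1.MovA_m3
import Cfsg.Agent.R2.Spec.EE.SokF4_m3
import Cfsg.Agent.R2.Spec.X1.E7.Rows_m3
import Cfsg.Agent.Lib.ListFast
import Cfsg.Agent.H402.Rec.SpecP_m3
import Cfsg.Agent.R2.Spec.X3.PE.H18.F4_mg_m3
import Cfsg.Agent.Prune
set_option linter.all false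

section
prune_inst 0x7ffffdfafbff37ffffff7e7fffd9fffe1b95dfffefdff943ffeeebff8fdf139a0bcd7fad9de0b8fe1ed6e23410b87853fb7eeeffe26fdc7ffffdfff45ffbee5ff5f7bd0911d390240f382fffe3f07fca7f3fffffffffffffffffffffffffffbeffbfffffffff

-- part: R2/Spec/AA/Data
section
set_option linter.all false
open scoped Cfsg.Agent.FastGrp

/-!
# Team T3 (S3435), packet EXO-AA: the families `A` with the signed size of the field (helper22)

`IsAA t n q x` : `t = psl n`, `x = q` or `t = psu n`, `x = -q`.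
-/

set_option autoImplicit false

namespace Cfsg.Agent.R2.Spec.AA

open Cfsg Cfsg.Agent.H426.LieFam Cfsg.Agent.R2.Spec Cfsg.Agent.R2.Spec.P1 Cfsg.Agent.R2.Spec.F1
open Cfsg.Agent.R2.Spec.E Cfsg.Agent.R2.Spec.X7

universe u w

/-- the families `A` with the signed size of the field -/
def IsAA (t : Fam) (n q : ℕ) (x : ℤ) : Prop := (t = .psl n ∧ x = q) ∨ (t = .psu n ∧ x = -(q : ℤ))

variable {t : Fam} {n q : ℕ} {x : ℤ}

theorem IsAA.abs_eq (h : IsAA t n q x) : x.natAbs = q := by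
  rcases h with ⟨-, rfl⟩ | ⟨-, rfl⟩ <;> simp

theorem IsAA.usg_eq (h : IsAA t n q x) (hq : 1 ≤ q) : usg t q = (x - 1).natAbs := by
  rcases h with ⟨rfl, rfl⟩ | ⟨rfl, rfl⟩
  · show q - 1 = _
    omega
  · show q + 1 = _
    omega

theorem IsAA.dgL_eq (h : IsAA t n q x) (hq : 1 ≤ q) : dgL t q = Nat.gcd n (x - 1).natAbs := by
  rcases h with ⟨rfl, rfl⟩ | ⟨rfl, rfl⟩
  · show Nat.gcd n (q - 1) = _
    congr 1
    omega
  · show Nat.gcd n (q + 1) = _
    congr 1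
    omega

theorem IsAA.val (h : IsAA t n q x) (hn : 2 ≤ n) (hq : 2 ≤ q) :
    ttor t q n * (Nat.gcd n (x - 1).natAbs * (x - 1).natAbs) = ua x n ∧
      ttor t q (n - 1) * Nat.gcd n (x - 1).natAbs = ua x (n - 1) := by
  rcases h with ⟨rfl, rfl⟩ | ⟨rfl, rfl⟩
  · have h1 := val_psl hn hq
    rw [ua_plus (by omega), ua_plus (by omega), show ((q : ℤ) - 1).natAbs = q - 1 by omega]
    exact h1
  · have h1 := val_psu hn hq
    have hN : ∀ m : ℕ, ua (-(q : ℤ)) m = if m % 2 = 0 then q ^ m - 1 else q ^ m + 1 := by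
      intro m
      split_ifs with hm
      · exact ua_minus_even (by omega) (Nat.even_iff.2 hm)
      · exact ua_minus_odd (Nat.odd_iff.2 (by omega))
    have hN1 : ua (-(q : ℤ)) (n - 1) = if n % 2 = 0 then q ^ (n - 1) + 1 else q ^ (n - 1) - 1 := by
      rw [hN]
      by_cases h2 : n % 2 = 0
      · rw [if_pos h2, if_neg (by omega)]
      · rw [if_neg h2, if_pos (by omega)]
    rw [hN, hN1, show (-(q : ℤ) - 1).natAbs = q + 1 by omega]
    exact h1

theorem IsAA.cls_eq (h : IsAA t n q x) (r : ℕ) : cls t q r = orderOf ((x : ℤ) : ZMod r) := by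
  rcases h with ⟨rfl, rfl⟩ | ⟨rfl, rfl⟩ <;> rfl

theorem IsAA.na_iff (h : IsAA t n q x) {i j : ℕ} : na t i j ↔ n < i + j ∧ ¬ i ∣ j ∧ ¬ j ∣ i := by
  rcases h with ⟨rfl, rfl⟩ | ⟨rfl, rfl⟩ <;> rfl

theorem IsAA.mem_iff (h : IsAA t n q x) {i : ℕ} : mem t i ↔ i ≤ n := by
  rcases h with ⟨rfl, rfl⟩ | ⟨rfl, rfl⟩ <;> rfl

theorem IsAA.top_iff (h : IsAA t n q x) {i : ℕ} : top t i ↔ 3 ≤ i ∧ (i = n ∨ i + 1 = n) := by
  rcases h with ⟨rfl, rfl⟩ | ⟨rfl, rfl⟩ <;> rfl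

theorem IsAA.rk_eq (h : IsAA t n q x) : rk t = n := by
  rcases h with ⟨rfl, rfl⟩ | ⟨rfl, rfl⟩ <;> rfl

theorem IsAA.five (h : IsAA t n q x) (hn : 9 ≤ n) : Five t := by
  rcases h with ⟨rfl, rfl⟩ | ⟨rfl, rfl⟩ <;> exact hn

theorem IsAA.fldOk (h : IsAA t n q x) {k : ℕ} (hk : 3 ≤ k) : FldOk t k := by
  rcases h with ⟨rfl, rfl⟩ | ⟨rfl, rfl⟩
  · exact fun h2 => absurd h2 (by omega)
  · exact fun h2 => absurd h2 (by omega)

theorem IsAA.bigI (h : IsAA t n q x) {i : ℕ} (h3 : 3 ≤ i) (hi : i ≤ n) (h2 : n < 2 * i) : Big t i := by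
  rcases h with ⟨rfl, rfl⟩ | ⟨rfl, rfl⟩ <;> exact ⟨h3, hi, h2⟩

theorem ua_xv {e : Bool} {k : ℕ} (hq : 1 ≤ q) :
    Cfsg.Agent.H403.NumTop.AA e k q = ua (Cfsg.Agent.H403.NumTop.xv e q) k := by
  rcases Cfsg.Agent.H403.NumTop.AA_eq (e := e) (i := k) hq with h | h
  · rw [ua, ← h, Int.natAbs_natCast]
  · rw [ua, ← Int.natAbs_neg, ← h, Int.natAbs_natCast]

theorem IsAA.isA (h : IsAA t n q x) (hq : 1 ≤ q) :
    ∃ e, X5.IsA t n e ∧ ∀ k, Cfsg.Agent.H403.NumTop.AA e k q = ua x k := by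
  rcases h with ⟨rfl, rfl⟩ | ⟨rfl, rfl⟩
  · exact ⟨true, ⟨rfl, rfl⟩, fun k => by rw [ua_xv hq]; rfl⟩
  · exact ⟨false, ⟨rfl, rfl⟩, fun k => by rw [ua_xv hq]; rfl⟩

theorem IsAA.le (h : IsAA t n q x) {p f : ℕ} {X : Type w} [Group X] (his : Fam.Is p f X t) : 2 ≤ n := by
  rcases h with ⟨rfl, rfl⟩ | ⟨rfl, rfl⟩
  · exact his.1
  · exact le_trans (by norm_num) his.1

/-- two tori -/
theorem IsAA.tor {p f : ℕ} (h : IsAA t n (p ^ f) x) {X : Type w} [Group X] (his : Fam.Is p f X t) (hq : 1 ≤ p ^ f)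
    {k b : ℕ} (hk : 1 ≤ k) (hb : 1 ≤ b) (hkb : k + b + 2 ≤ n) :
    ∃ g : X, orderOf g = Nat.lcm (ua x k) (ua x b) := by
  obtain ⟨e, he, hA⟩ := h.isA hq
  obtain ⟨g, c, h1, -, h2⟩ := X5.torL his he (by omega) hk hb (by omega)
  rw [h2 hkb, mul_one, hA, hA] at h1
  exact ⟨g, h1⟩

/-- one torus -/
theorem IsAA.tor_one {p f : ℕ} (h : IsAA t n (p ^ f) x) {X : Type w} [Group X] (his : Fam.Is p f X t) (hq : 1 ≤ p ^ f)
    {k : ℕ} (hk : 1 ≤ k) (hkb : k + 2 ≤ n) : ∃ g : X, orderOf g = ua x k := by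
  obtain ⟨e, he, hA⟩ := h.isA hq
  obtain ⟨g, c, h1, -, h2⟩ := X5.torL_one his he (by omega) hk (by omega)
  rw [h2 hkb, mul_one, hA] at h1
  exact ⟨g, h1⟩

/-- the orders divisible by a prime of the class `n - 2` -/
theorem IsAA.ub_third {p f : ℕ} (h : IsAA t n (p ^ f) x) {X : Type w} [Group X] [Finite X] (hp : p.Prime)
    (his : Fam.Is p f X t) (hn : 5 ≤ n) {r : ℕ} (hr : r.Prime) (hrp : r ≠ p) (hc : cls t (p ^ f) r + 2 = n) {g : X}
    (hg : r ∣ orderOf g) : orderOf g ∣ p * ua x (n - 2) ∨ orderOf g ∣ ua x (n - 2) * (x + 1).natAbs := by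
  have hfp := Fact.mk hp
  rw [h.cls_eq] at hc
  rcases h with ⟨rfl, rfl⟩ | ⟨rfl, rfl⟩
  · obtain ⟨-, -, F, _, _, hch, hF, ⟨e⟩⟩ := his
    rw [← MulEquiv.orderOf_eq e g] at hg ⊢
    exact HasMat.ub_third (hasMat_psl rfl hF (e g)) hr hrp hg hn hc
  · obtain ⟨-, -, F, _, _, hch, hF, ⟨e0⟩⟩ := his
    have e : X ≃* PSU n F (p ^ f) := e0
    rw [← MulEquiv.orderOf_eq e g] at hg ⊢
    exact HasMat.ub_third (hasMat_psu rfl (e g)) hr hrp hg hn hc

/-- the orders divisible by a prime of the class `n - 2` and by `q` -/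
theorem third_q {p f N : ℕ} (hp : p.Prime) (hf : 1 ≤ f) (hx : x.natAbs = p ^ f) (hq : 3 ≤ p ^ f) (hn : 3 ≤ n)
    (hN : p ^ f ∣ N) (h : N ∣ p * ua x (n - 2) ∨ N ∣ ua x (n - 2) * (x + 1).natAbs) :
    N ∣ x.natAbs * ua x (n - 2) := by
  have hpx : (p : ℤ) ∣ x := by
    rw [← Int.dvd_natAbs, hx]
    exact_mod_cast dvd_pow_self p (by omega)
  have hc1 : Nat.Coprime p (ua x (n - 2)) := by
    rw [hp.coprime_iff_not_dvd]
    intro hd
    have h1 : (p : ℤ) ∣ x ^ (n - 2) - 1 := Int.natCast_dvd.2 hd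
    have h2 : (p : ℤ) ∣ x ^ (n - 2) := hpx.trans (dvd_pow_self x (by omega))
    have h3 := dvd_sub h2 h1
    rw [sub_sub_cancel] at h3
    have h4 : p ∣ 1 := by exact_mod_cast h3
    exact hp.one_lt.ne' (Nat.dvd_one.1 h4)
  have hc2 : Nat.Coprime p (x + 1).natAbs := by
    rw [hp.coprime_iff_not_dvd]
    intro hd
    have h1 : (p : ℤ) ∣ x + 1 := Int.natCast_dvd.2 hd
    have h3 := dvd_sub h1 hpx
    rw [add_sub_cancel_left] at h3
    have h4 : p ∣ 1 := by exact_mod_cast h3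
    exact hp.one_lt.ne' (Nat.dvd_one.1 h4)
  rcases h with h | h
  · have h1 : p ^ f ∣ p := (Nat.Coprime.pow_left f hc1).dvd_of_dvd_mul_right (hN.trans h)
    have h2 : p ^ f = p := Nat.dvd_antisymm h1 (dvd_pow_self p (by omega))
    rw [hx, h2]
    exact h
  · exfalso
    have h1 := (Nat.Coprime.pow_left f hc1).dvd_of_dvd_mul_left (hN.trans h)
    have h2 : p ∣ (x + 1).natAbs := (dvd_pow_self p (by omega)).trans h1
    exact hp.one_lt.ne' (Nat.Coprime.eq_one_of_dvd hc2 h2)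

end Cfsg.Agent.R2.Spec.AA
end

-- part: R2/Spec/IIA/Main
section
set_option linter.all false
open scoped Cfsg.Agent.FastGrp

-- part: R2/Spec/IIA/Third
section
/-!
# Packet EXO-IIA (S3435): orders divisible by a prime of the class `2 m` in dimension at most `2 m + 4` (helper4)

`L = PSp_2n(q)`, `Ω_{2n+1}(q)` (`m = n - 1`), `PΩ^+_2n(q)` (`m = n - 2`).
-/

set_option autoImplicit false
set_option linter.unusedSectionVars false

namespace Cfsg.Agent.R2.Spec.IIA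

open Module Polynomial Cfsg Cfsg.Agent.H426.LieFam Cfsg.Agent.R2.Spec
open Cfsg.Agent.H160.QRoots Cfsg.Agent.H160.QChar Cfsg.Agent.R2.Spec.P1 Cfsg.Agent.R2.Spec.P1.Eig
open Cfsg.Agent.LieClassical.OrthCore (Nondeg O)
open Cfsg.Agent.LieClassical.OrthForms Cfsg.Agent.H160.QSpin Cfsg.Agent.H160.QDisc Cfsg.Agent.H160.QSplit

universe u

section

variable {K : Type*} [Field K] [DecidableEq K] {q : ℕ} {R : Multiset K}

theorem sq_frob (hodd : q % 2 = 1) {z : K} (h : z * z = 1) : z ^ q = z := by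
  obtain ⟨j, hj⟩ : ∃ j, q = 2 * j + 1 := ⟨q / 2, by omega⟩
  rw [hj, pow_succ, pow_mul, pow_two, h, one_pow, one_mul]

/-- **The exponent of a small rest.** -/
theorem rest_exp (hq : Function.Injective (fun x : K => x ^ q)) (hodd : q % 2 = 1) (h : ED q R) (hc : R.card ≤ 4) :
    (∀ z ∈ R, z ^ (q ^ 2 - 1) = 1) ∨ (∀ z ∈ R, z ^ (q ^ 2 + 1) = 1) := by
  have hq1 : 1 ≤ q := by omega
  by_cases hall : ∀ z ∈ R, z ^ (q ^ 2) = z
  · left
    intro z hz
    have h1 := hall z hz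
    have h2 : z ^ (q ^ 2 - 1) * z = 1 * z := by
      rw [← pow_succ, Nat.sub_add_cancel (Nat.one_le_pow _ _ hq1), h1, one_mul]
    exact mul_right_cancel₀ (h.ne0 z hz) h2
  · right
    push Not at hall
    obtain ⟨z, hz, hz2⟩ := hall
    have hz0 := h.ne0 z hz
    have hqq : z ^ (q ^ 2) = (z ^ q) ^ q := by rw [pow_two, pow_mul]
    have n1 : z ^ q ≠ z := fun h1 => hz2 (by rw [hqq, h1, h1])
    have n2 : z⁻¹ ≠ z := by
      intro h1
      apply n1
      apply sq_frob hodd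
      nth_rewrite 1 [← h1]
      exact inv_mul_cancel₀ hz0
    have n3 : z ^ q ≠ z⁻¹ := fun h1 => hz2 (by rw [hqq, h1, inv_pow, h1, inv_inv])
    have m1 : z ^ q ∈ R := by
      rw [← Multiset.one_le_count_iff_mem, h.frob, Multiset.one_le_count_iff_mem]; exact hz
    have m2 : z⁻¹ ∈ R := by
      rw [← Multiset.one_le_count_iff_mem, h.inv, Multiset.one_le_count_iff_mem]; exact hz
    have m3 : (z ^ q)⁻¹ ∈ R := by
      rw [← Multiset.one_le_count_iff_mem, h.inv, Multiset.one_le_count_iff_mem]; exact m1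
    have m4 : z ^ (q ^ 2) ∈ R := by
      rw [hqq, ← Multiset.one_le_count_iff_mem, h.frob, Multiset.one_le_count_iff_mem]; exact m1
    have n4 : (z ^ q)⁻¹ ≠ z := fun h1 => n3 (inv_eq_iff_eq_inv.1 h1)
    have n5 : (z ^ q)⁻¹ ≠ z ^ q := by
      intro h1
      apply n2
      apply hq
      show (z⁻¹) ^ q = z ^ q
      rw [inv_pow]
      exact h1
    have n6 : (z ^ q)⁻¹ ≠ z⁻¹ := fun h1 => n1 (inv_injective h1)
    have hS : ({z, z ^ q, z⁻¹, (z ^ q)⁻¹} : Finset K).card = 4 := by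
      rw [Finset.card_insert_of_notMem, Finset.card_insert_of_notMem, Finset.card_insert_of_notMem,
        Finset.card_singleton]
      · rw [Finset.mem_singleton]; exact fun h1 => n6 h1.symm
      · rw [Finset.mem_insert, Finset.mem_singleton, not_or]
        exact ⟨n3, fun h1 => n5 h1.symm⟩
      · rw [Finset.mem_insert, Finset.mem_insert, Finset.mem_singleton, not_or, not_or]
        exact ⟨fun h1 => n1 h1.symm, fun h1 => n2 h1.symm, fun h1 => n4 h1.symm⟩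
    have hsub : ({z, z ^ q, z⁻¹, (z ^ q)⁻¹} : Finset K) ⊆ R.toFinset := by
      intro w hw
      rw [Finset.mem_insert, Finset.mem_insert, Finset.mem_insert, Finset.mem_singleton] at hw
      rw [Multiset.mem_toFinset]
      rcases hw with rfl | rfl | rfl | rfl <;> assumption
    have heq := Finset.eq_of_subset_of_card_le hsub (by
      rw [hS]
      exact (Multiset.toFinset_card_le R).trans hc)
    have hmem : ∀ w, w ∈ R → w = z ∨ w = z ^ q ∨ w = z⁻¹ ∨ w = (z ^ q)⁻¹ := by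
      intro w hw
      rw [← Multiset.mem_toFinset, ← heq, Finset.mem_insert, Finset.mem_insert, Finset.mem_insert,
        Finset.mem_singleton] at hw
      exact hw
    have hz3 : z ^ (q ^ 2) = z⁻¹ := by
      rcases hmem _ m4 with h1 | h1 | h1 | h1
      · exact absurd h1 hz2
      · rw [hqq] at h1
        exact absurd (hq h1) n1
      · exact h1
      · rw [hqq, ← inv_pow] at h1
        exact absurd (hq h1) n3
    have hz4 : z ^ (q ^ 2 + 1) = 1 := by rw [pow_succ, hz3, inv_mul_cancel₀ hz0]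
    intro w hw
    rcases hmem w hw with rfl | rfl | rfl | rfl
    · exact hz4
    · rw [← pow_mul, mul_comm, pow_mul, hz4, one_pow]
    · rw [inv_pow, hz4, inv_one]
    · rw [inv_pow, ← pow_mul, mul_comm, pow_mul, hz4, one_pow, inv_one]

/-- **The exponent.** -/
theorem third_ed (hq : Function.Injective (fun x : K => x ^ q)) (hodd : q % 2 = 1) (h : ED q R) {m r k : ℕ} {x : K}
    (hx : x ∈ R) (hr : r.Prime) (h1 : x ^ k ≠ 1) (hxr : (x ^ k) ^ r = 1) (hi : orderOf (q : ZMod r) = 2 * m)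
    (hm : 4 ≤ m) (hc : R.card ≤ 2 * m + 4) {p : ℕ} (hp : p.Prime) (hp2 : p ≠ 2) (hpq : p ∣ q) :
    ∃ T j : ℕ, (∀ z ∈ R, z ^ T = 1) ∧ (∀ z, R.count z ≤ p ^ j) ∧
      (∃ K', 0 < K' ∧ K' ≤ (q + 1) ^ 2 ∧ T * p ^ j ∣ K' * (q * (q ^ m + 1))) ∧
      T * p ^ j ∣ 9 * (q * ((q ^ 4 - 1) * (q ^ m + 1))) := by
  have hq1 : 1 ≤ q := by omega
  have hp3 : 3 ≤ p := by have := hp.two_le; omega
  have hq3 : 3 ≤ q := hp3.trans (Nat.le_of_dvd (by omega) hpq)
  obtain ⟨hmin, hb, -, R', hR, hR', hcard⟩ := h.block hq hq1 hx hr h1 hxr hi (by omega) (Or.inl rfl) (by omega)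
  have hxx := hb rfl
  have hx0 := hmin.ne0
  have hxZ : x ^ (q ^ m + 1) = 1 := by rw [pow_succ, hxx, inv_mul_cancel₀ hx0]
  have horb : ∀ z ∈ orb q x m, z ^ (q ^ m + 1) = 1 := by
    intro z hz
    obtain ⟨i, -, rfl | rfl⟩ := mem_orb.1 hz
    · rw [← pow_mul, mul_comm, pow_mul, hxZ, one_pow]
    · rw [inv_pow, ← pow_mul, mul_comm, pow_mul, hxZ, one_pow, inv_one]
  have hc4 : R'.card ≤ 4 := by omega
  have hnd : (orb q x m).val.Nodup := (orb q x m).nodup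
  -- the orbit and the rest are disjoint
  have hdis : ∀ z, z ∈ orb q x m → R'.count z = 0 := by
    intro z hz
    by_contra hne
    have hz1 : 1 ≤ R'.count z := by omega
    have hcz : R'.count x = R'.count z := (hR'.count_orb hz).symm
    have h2 : (orb q x m).val ≤ R' := by
      rw [Multiset.le_iff_count]
      intro w
      by_cases hw : w ∈ orb q x m
      · rw [Multiset.count_eq_one_of_mem hnd hw, hR'.count_orb hw, hcz]
        exact hz1
      · rw [Multiset.count_eq_zero_of_notMem (s := (orb q x m).val) hw]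
        exact Nat.zero_le _
    have h3 := Multiset.card_le_card h2
    rw [Finset.card_val, card_orb hq hmin] at h3
    omega
  have hcnt : ∀ z, R.count z ≤ max 1 (R'.count z) := by
    intro z
    rw [hR, Multiset.count_add]
    by_cases hz : z ∈ orb q x m
    · rw [hdis z hz, Multiset.count_eq_one_of_mem hnd hz]
      omega
    · rw [Multiset.count_eq_zero_of_notMem (s := (orb q x m).val) hz]
      omega
  have hmem : ∀ z ∈ R, z ∈ orb q x m ∨ z ∈ R' := by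
    intro z hz
    rw [hR, Multiset.mem_add] at hz
    exact hz
  have hZ2 : 2 ∣ q ^ m + 1 := by
    have : q ^ m % 2 = 1 := by rw [Nat.pow_mod, hodd, one_pow]; rfl
    omega
  have hq4 : q ^ 4 - 1 = (q ^ 2 - 1) * (q ^ 2 + 1) := by
    have h2 : 1 ≤ q ^ 2 := Nat.one_le_pow _ _ hq1
    obtain ⟨c, hc⟩ : ∃ c, q ^ 2 = c + 1 := ⟨q ^ 2 - 1, by omega⟩
    rw [show q ^ 4 = (q ^ 2) ^ 2 by ring, hc, Nat.add_sub_cancel]
    have : (c + 1) ^ 2 = c * (c + 1 + 1) + 1 := by ring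
    omega
  by_cases h4 : ∃ z, 4 ≤ R'.count z
  · -- all four equal
    obtain ⟨z, hz⟩ := h4
    have h5 : R'.count z = R'.card := le_antisymm (Multiset.count_le_card _ _) (by omega)
    have h6 := Multiset.count_eq_card.1 h5
    have hzR : z ∈ R' := by rw [← Multiset.one_le_count_iff_mem]; omega
    have hzi : z⁻¹ ∈ R' := by
      rw [← Multiset.one_le_count_iff_mem, hR'.inv]; omega
    have hz2 : z = z⁻¹ := h6 _ hzi
    have hz0 := hR'.ne0 z hzR
    have hzZ : z ^ (q ^ m + 1) = 1 := by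
      obtain ⟨c, hc⟩ := hZ2
      rw [hc, pow_mul, pow_two]
      nth_rewrite 1 [hz2]
      rw [inv_mul_cancel₀ hz0, one_pow]
    have hex : ∀ w ∈ R, w ^ (q ^ m + 1) = 1 := by
      intro w hw
      rcases hmem w hw with h7 | h7
      · exact horb w h7
      · rw [← h6 w h7]
        exact hzZ
    rcases Nat.lt_or_ge p 4 with h7 | h7
    · have hp3' : p = 3 := by omega
      subst hp3'
      refine ⟨q ^ m + 1, 2, hex, ?_, ⟨3, by norm_num, ?_, ?_⟩, ?_⟩
      · intro w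
        have := hcnt w
        have := Multiset.count_le_card w R'
        norm_num
        omega
      · have : 4 ^ 2 ≤ (q + 1) ^ 2 := Nat.pow_le_pow_left (by omega) 2
        omega
      · obtain ⟨c, hc⟩ := hpq
        refine ⟨c, ?_⟩
        generalize q ^ m + 1 = b
        rw [hc]
        ring
      · refine ⟨q * (q ^ 4 - 1), ?_⟩
        generalize q ^ m + 1 = b
        generalize q ^ 4 - 1 = a
        ring
    · refine ⟨q ^ m + 1, 1, hex, ?_, ⟨1, by norm_num, Nat.one_le_pow _ _ (by omega), ?_⟩, ?_⟩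
      · intro w
        have := hcnt w
        have := Multiset.count_le_card w R'
        rw [pow_one]
        omega
      · obtain ⟨c, hc⟩ := hpq
        refine ⟨c, ?_⟩
        generalize q ^ m + 1 = b
        rw [hc]
        ring
      · obtain ⟨c, hc⟩ := hpq
        refine ⟨9 * (c * (q ^ 4 - 1)), ?_⟩
        generalize q ^ m + 1 = b
        generalize q ^ 4 - 1 = a
        rw [hc]
        ring
  · push Not at h4
    have hct : ∀ w, R.count w ≤ p ^ 1 := by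
      intro w
      have := hcnt w
      have := h4 w
      rw [pow_one]
      omega
    rcases rest_exp hq hodd hR' hc4 with h5 | h5
    · refine ⟨(q ^ 2 - 1) * (q ^ m + 1), 1, ?_, hct, ⟨q ^ 2 - 1, ?_, ?_, ?_⟩, ?_⟩
      · intro z hz
        rcases hmem z hz with h6 | h6
        · rw [mul_comm, pow_mul, horb z h6, one_pow]
        · rw [pow_mul, h5 z h6, one_pow]
      · have : 3 ^ 2 ≤ q ^ 2 := Nat.pow_le_pow_left hq3 2
        omega
      · have : (q + 1) ^ 2 = q ^ 2 + 2 * q + 1 := by ring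
        omega
      · obtain ⟨c, hc⟩ := hpq
        refine ⟨c, ?_⟩
        generalize q ^ 2 - 1 = a
        generalize q ^ m + 1 = b
        rw [hc]
        ring
      · obtain ⟨c, hc⟩ := hpq
        refine ⟨9 * (c * (q ^ 2 + 1)), ?_⟩
        rw [hq4]
        generalize q ^ 2 - 1 = a
        generalize q ^ 2 + 1 = a'
        generalize q ^ m + 1 = b
        rw [hc]
        ring
    · refine ⟨(q ^ 2 + 1) * (q ^ m + 1), 1, ?_, hct, ⟨q ^ 2 + 1, ?_, ?_, ?_⟩, ?_⟩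
      · intro z hz
        rcases hmem z hz with h6 | h6
        · rw [mul_comm, pow_mul, horb z h6, one_pow]
        · rw [pow_mul, h5 z h6, one_pow]
      · omega
      · have : (q + 1) ^ 2 = q ^ 2 + 2 * q + 1 := by ring
        omega
      · obtain ⟨c, hc⟩ := hpq
        refine ⟨c, ?_⟩
        generalize q ^ 2 + 1 = a
        generalize q ^ m + 1 = b
        rw [hc]
        ring
      · obtain ⟨c, hc⟩ := hpq
        refine ⟨9 * (c * (q ^ 2 - 1)), ?_⟩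
        rw [hq4]
        generalize q ^ 2 - 1 = a
        generalize q ^ 2 + 1 = a'
        generalize q ^ m + 1 = b
        rw [hc]
        ring

end

/-- the restriction for the orders divisible by a prime of the class `2 m` -/
def TOK (q m N : ℕ) : Prop :=
  (∃ K', 0 < K' ∧ K' ≤ (q + 1) ^ 2 ∧ N ∣ K' * (q * (q ^ m + 1))) ∧ N ∣ 9 * (q * ((q ^ 4 - 1) * (q ^ m + 1)))

theorem TOK.of_dvd {q m N N' : ℕ} (h : TOK q m N) (hd : N' ∣ N) : TOK q m N' := by
  obtain ⟨⟨K', h1, h2, h3⟩, h4⟩ := h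
  exact ⟨⟨K', h1, h2, hd.trans h3⟩, hd.trans h4⟩

open Classical in
theorem third_end {F V : Type*} [Field F] [Fintype F] [AddCommGroup V] [Module F V] [FiniteDimensional F V] {p : ℕ} [hp : Fact p.Prime] [CharP F p] (hp2 : p ≠ 2) {f : Module.End F V}
    {N r m : ℕ} (hN : 0 < N) (hf : f ^ N = 1) (hmin : ∀ k, f ^ k = 1 → N ∣ k) (hr : r.Prime) (hrp : r ≠ p)
    (hrN : r ∣ N) (hED : ED (Fintype.card F) (rts f)) (hdim : finrank F V ≤ 2 * m + 4)
    (hi : orderOf ((Fintype.card F : ℕ) : ZMod r) = 2 * m) (hm : 4 ≤ m) (hodd : Fintype.card F % 2 = 1)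
    (hpF : p ∣ Fintype.card F) : TOK (Fintype.card F) m N := by
  obtain ⟨x, hx, k, hk1, hkr⟩ := exists_eig (f := f) (p := p) hN hf hmin hr hrp hrN
  obtain ⟨T, j, h1, h2, h3, h4⟩ := third_ed (frob_inj F) hodd hED hx hr hk1 hkr hi hm (by rw [card_rts]; exact hdim)
    hp.out hp2 hpF
  have h5 : N ∣ T * p ^ j := hmin _ (pow_eq_one_of_bd (M := p ^ j) ⟨h2, h1⟩ le_rfl)
  exact TOK.of_dvd ⟨h3, h4⟩ h5

/-- `PSp_2n(q)` -/
theorem third_psp {F : Type*} [Field F] [Fintype F] {p : ℕ} [Fact p.Prime] [CharP F p] (hp2 : p ≠ 2) {n m : ℕ}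
    (hn : n ≤ m + 2) (hm : 4 ≤ m) (hodd : Fintype.card F % 2 = 1) (hpF : p ∣ Fintype.card F)
    {y : PSp n F} {r : ℕ} (hr : r.Prime) (hrp : r ≠ p) (hrg : r ∣ orderOf y)
    (hi : orderOf ((Fintype.card F : ℕ) : ZMod r) = 2 * m) : TOK (Fintype.card F) m (orderOf y) := by
  classical
  obtain ⟨A, rfl⟩ := QuotientGroup.mk_surjective y
  set M : Matrix (Fin n ⊕ Fin n) (Fin n ⊕ Fin n) F := (A : Matrix (Fin n ⊕ Fin n) (Fin n ⊕ Fin n) F) with hM
  set g : Module.End F (Fin n ⊕ Fin n → F) := Matrix.toLin' M with hg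
  have hfin : finrank F (Fin n ⊕ Fin n → F) = 2 * n := by
    rw [Module.finrank_fintype_fun_eq_card]; simp; ring
  have hroots : (M.map (algebraMap F (AlgebraicClosure F))).charpoly.roots = rts g := by
    rw [Matrix.charpoly_map, rts, hg, Matrix.charpoly_toLin']
  have hJM : Matrix.transpose M * Matrix.J (Fin n) F * M = Matrix.J (Fin n) F := SymplecticGroup.mem_iff'.1 A.2
  have hinv : rts g = (rts g).map (fun x => x⁻¹) := by
    rw [← hroots]
    refine roots_inv (M := M.map (algebraMap F (AlgebraicClosure F)))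
      (G := (Matrix.J (Fin n) F).map (algebraMap F (AlgebraicClosure F))) ?_ ?_ (IsAlgClosed.splits _)
    · have h4 : ((Matrix.J (Fin n) F).map (algebraMap F (AlgebraicClosure F))).det =
          algebraMap F (AlgebraicClosure F) (Matrix.J (Fin n) F).det := by
        rw [RingHom.map_det]; rfl
      rw [h4]
      exact (_root_.map_ne_zero _).2 (Matrix.isUnit_det_J (Fin n) F).ne_zero
    · have h5 := congrArg (fun A : Matrix _ _ F => A.map (algebraMap F (AlgebraicClosure F))) hJM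
      simp only [Matrix.map_mul] at h5
      exact h5
  have hdetM : M.det = 1 := SymplecticGroup.det_eq_one A.2
  have hprod : (rts g).prod = 1 := prod_rts (by rw [hg, LinearMap.det_toLin', hdetM])
  have hED : ED (Fintype.card F) (rts g) := by
    refine ⟨fun x => ?_, fun x => ?_, ?_⟩
    · have := count_frob g x
      convert this using 2
    · conv_lhs => rw [hinv]
      exact Multiset.count_map_eq_count' _ _ inv_injective _
    · rintro x hx rfl
      rw [Multiset.prod_eq_zero hx] at hprod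
      exact zero_ne_one hprod
  have hpow : ∀ k, g ^ k = 1 ↔ A ^ k = 1 := by
    intro k
    have h4 : (1 : Module.End F (Fin n ⊕ Fin n → F)) = Matrix.toLin' 1 := by
      rw [Matrix.toLin'_one]; rfl
    rw [hg, ← Matrix.toLin'_pow, h4, (Matrix.toLin' (R := F)).injective.eq_iff, Subtype.ext_iff]
    rfl
  have hfinG : Finite (Matrix.symplecticGroup (Fin n) F) := inferInstance
  have hN : 0 < orderOf A := orderOf_pos A
  have hd : orderOf (QuotientGroup.mk A : PSp n F) ∣ orderOf A := orderOf_map_dvd (QuotientGroup.mk' _) A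
  exact (third_end hp2 hN ((hpow _).2 (pow_orderOf_eq_one A))
    (fun k hk => orderOf_dvd_of_pow_eq_one ((hpow k).1 hk)) hr hrp (hrg.trans hd) hED (by omega) hi hm hodd
    hpF).of_dvd hd

/-- `PΩ` -/
theorem third_pomega {F : Type*} [Field F] [Fintype F] {ι : Type} [Fintype ι] [DecidableEq ι] {p : ℕ} [Fact p.Prime]
    [CharP F p] (hp2 : p ≠ 2) (h2 : (2 : F) ≠ 0) {Q : QuadraticForm F (ι → F)} (hQ : Nondeg Q) {m : ℕ}
    (h5 : 5 ≤ Fintype.card ι) (hV : Fintype.card ι ≤ 2 * m + 4) (hm : 4 ≤ m) (hodd : Fintype.card F % 2 = 1)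
    (hpF : p ∣ Fintype.card F) {y : POmega F ⇑Q} {r : ℕ} (hr : r.Prime) (hrp : r ≠ p) (hrg : r ∣ orderOf y)
    (hi : orderOf ((Fintype.card F : ℕ) : ZMod r) = 2 * m) : TOK (Fintype.card F) m (orderOf y) := by
  classical
  obtain ⟨g, hg, -, hgo⟩ := lift_pomega h2 hQ h5 y
  obtain ⟨hgO, -, -⟩ := hg
  have hN : 0 < orderOf g := by
    have hfin : Finite ((ι → F) ≃ₗ[F] (ι → F)) :=
      Finite.of_injective (fun g : (ι → F) ≃ₗ[F] (ι → F) => (g : (ι → F) → (ι → F))) DFunLike.coe_injective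
    exact orderOf_pos g
  exact (third_end (f := en g) hp2 hN (by rw [← en_pow, pow_orderOf_eq_one]; rfl)
    (fun k hk => orderOf_dvd_of_pow_eq_one (en_inj (by rw [en_pow, hk]; rfl))) hr hrp (hrg.trans hgo)
    (ed_rts hQ hgO) (by rw [Module.finrank_fintype_fun_eq_card]; exact hV) hi hm hodd hpF).of_dvd hgo

/-- **The orders divisible by a prime of the class `2 m`.** -/
theorem third {t : Fam} {n m : ℕ} (ht : (t = .psp n ∨ t = .oodd n) ∧ n = m + 1 ∨ t = .oplus n ∧ n = m + 2) {p f : ℕ}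
    {X : Type u} [Group X] [Finite X] (hp : p.Prime) (hp2 : p ≠ 2) (h : Fam.Is p f X t) (hm : 4 ≤ m) {x : X} {r : ℕ}
    (hr : r.Prime) (hrp : r ≠ p) (hrg : r ∣ orderOf x) (hi : cls t (p ^ f) r = 2 * m) : TOK (p ^ f) m (orderOf x) := by
  classical
  have hfp := Fact.mk hp
  have hpo : Odd (p ^ f) := (hp.odd_of_ne_two hp2).pow
  rcases ht with ⟨rfl | rfl, hn⟩ | ⟨rfl, hn⟩
  · obtain ⟨hn2, -, F, _, _, hch, hF, ⟨E⟩⟩ := h
    obtain ⟨hf, -, h2, -⟩ := field_data hp hp2 hF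
    have hco : cls (.psp n) (p ^ f) r = orderOf ((Fintype.card F : ℕ) : ZMod r) := by
      rw [cls_eq_co (fun _ h => by cases h), hF]; rfl
    rw [hco] at hi
    rw [← MulEquiv.orderOf_eq E x] at hrg ⊢
    rw [← hF] at hpo ⊢
    exact third_psp hp2 (by omega) hm (Nat.odd_iff.1 hpo) (by rw [hF]; exact dvd_pow_self p hf) hr hrp hrg hi
  · obtain ⟨hn2, -, F, _, _, hch, hF, ⟨E⟩⟩ := h
    obtain ⟨hf, -, h2, -⟩ := field_data hp hp2 hF
    have hco : cls (.oodd n) (p ^ f) r = orderOf ((Fintype.card F : ℕ) : ZMod r) := by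
      rw [cls_eq_co (fun _ h => by cases h), hF]; rfl
    rw [hco] at hi
    rw [← MulEquiv.orderOf_eq E x] at hrg ⊢
    rw [← hF] at hpo ⊢
    have hcard : Fintype.card (Option (Fin n ⊕ Fin n)) = 2 * n + 1 := by simp; ring
    have key : ∀ y : POmega F ⇑(oddForm n F), r ∣ orderOf y → TOK (Fintype.card F) m (orderOf y) := fun y hy =>
      third_pomega hp2 h2 (nondeg_oddForm n F h2) (by simp; omega) (by simp; omega) hm (Nat.odd_iff.1 hpo)
        (by rw [hF]; exact dvd_pow_self p hf) hr hrp hy hi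
    rw [coe_oddForm] at key
    exact key (E x) hrg
  · obtain ⟨hn2, F, _, _, hch, hF, ⟨E⟩⟩ := h
    obtain ⟨hf, -, h2, -⟩ := field_data hp hp2 hF
    have hco : cls (.oplus n) (p ^ f) r = orderOf ((Fintype.card F : ℕ) : ZMod r) := by
      rw [cls_eq_co (fun _ h => by cases h), hF]; rfl
    rw [hco] at hi
    rw [← MulEquiv.orderOf_eq E x] at hrg ⊢
    rw [← hF] at hpo ⊢
    have key : ∀ y : POmega F ⇑(plusForm n F), r ∣ orderOf y → TOK (Fintype.card F) m (orderOf y) := fun y hy =>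
      third_pomega hp2 h2 (nondeg_plusForm n F) (by simp; omega) (by simp; omega) hm (Nat.odd_iff.1 hpo)
        (by rw [hF]; exact dvd_pow_self p hf) hr hrp hy hi
    rw [coe_plusForm] at key
    exact key (E x) hrg

end Cfsg.Agent.R2.Spec.IIA
end

-- part: R2/Spec/IIA/Main
section
/-!
# Packet EXO-IIA (S3435) (helper4)

`exo_iia` : the exotic family `ExoIIA` does not occur.
-/

set_option autoImplicit false

namespace Cfsg.Agent.R2.Spec.IIA

open Cfsg Cfsg.Agent.H426.LieFam Cfsg.Agent.R2.Spec Cfsg.Agent.R2.Spec.P1 Cfsg.Agent.R2.Spec.F1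
open Cfsg.Agent.R2.Spec.E Cfsg.Agent.R2.Spec.X7 Cfsg.Agent.R2.Spec.AA Cfsg.Agent.H420.QR

universe u w

/-- the numbers of `L` -/
theorem fam_val {t : Fam} {q i j : ℕ} (hII : FamII t) (hr : 4 ≤ rk t) (hq3 : 3 ≤ q) (hq2 : q % 2 = 1)
    (h : PairOK t i j) : ttor t q i + ttor t q j = q ^ dimL t ∧
      4 * (ttor t q i * ttor t q j) + 1 = q ^ (2 * dimL t) := by
  have key : ∀ {a b n : ℕ}, 2 * a = q ^ n + 1 → 2 * b + 1 = q ^ n → (a + b = q ^ n ∧ 4 * (a * b) + 1 = q ^ (2 * n)) ∧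
      (b + a = q ^ n ∧ 4 * (b * a) + 1 = q ^ (2 * n)) := by
    intro a b n h1 h2
    have h3 : a = b + 1 := by omega
    have h4 : q ^ (2 * n) = (q ^ n) ^ 2 := by rw [mul_comm, pow_mul]
    rw [h4, ← h2, h3]
    refine ⟨⟨by ring, by ring⟩, by ring, by ring⟩
  cases t with
  | psp n =>
    change 4 ≤ n at hr
    obtain ⟨h3, h4⟩ := val_psp (n := n) (q := q) (by omega) (by omega)
    rw [gcd_two_odd hq2] at h3 h4
    have h5 := Nat.one_le_pow n q (by omega)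
    obtain ⟨k1, k2⟩ := key (a := ttor (.psp n) q (2 * n)) (b := ttor (.psp n) q n) (n := n) (by omega) (by omega)
    obtain ⟨h0, ⟨rfl, rfl⟩ | ⟨rfl, rfl⟩⟩ := h
    · exact k2
    · exact k1
  | oodd n =>
    change 4 ≤ n at hr
    obtain ⟨h3, h4⟩ := val_psp (n := n) (q := q) (by omega) (by omega)
    rw [gcd_two_odd hq2] at h3 h4
    have h5 := Nat.one_le_pow n q (by omega)
    obtain ⟨k1, k2⟩ := key (a := ttor (.psp n) q (2 * n)) (b := ttor (.psp n) q n) (n := n) (by omega) (by omega)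
    rw [ttor_oodd, ttor_oodd]
    obtain ⟨h0, ⟨rfl, rfl⟩ | ⟨rfl, rfl⟩⟩ := h
    · exact k2
    · exact k1
  | oplus n =>
    change 4 ≤ n at hr
    have h0 : n % 2 = 0 := hII
    have hd : dimL (.oplus n) = n - 1 := by rw [dimL, if_pos h0]
    obtain ⟨h3, h4⟩ := val_oplus_even (n := n) (q := q) hr h0 (by omega)
    rw [gcd_two_odd hq2] at h3 h4
    have h5 := Nat.one_le_pow (n - 1) q (by omega)
    rw [hd]
    obtain ⟨k1, k2⟩ := key (a := ttor (.oplus n) q (2 * (n - 1))) (b := ttor (.oplus n) q (n - 1)) (n := n - 1)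
      (by omega) (by omega)
    rcases h with ⟨h1, -⟩ | ⟨-, ⟨rfl, rfl⟩ | ⟨rfl, rfl⟩⟩
    · omega
    · exact k2
    · exact k1
  | _ => exact hII.elim

/-- the shape of `L` -/
theorem fam_shape {t : Fam} (hII : FamII t) (hr : 5 ≤ rk t) : ∃ n m0 : ℕ, m0 % 2 = 0 ∧ 4 ≤ m0 ∧ dimL t = m0 + 1 ∧
    ((t = .psp n ∨ t = .oodd n) ∧ n = m0 + 1 ∨ t = .oplus n ∧ n = m0 + 2) := by
  cases t with
  | psp n =>
    change 5 ≤ n at hr
    have h0 : n % 2 = 1 := hII
    exact ⟨n, n - 1, by omega, by omega, show n = _ by omega, Or.inl ⟨Or.inl rfl, by omega⟩⟩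
  | oodd n =>
    change 5 ≤ n at hr
    have h0 : n % 2 = 1 := hII
    exact ⟨n, n - 1, by omega, by omega, show n = _ by omega, Or.inl ⟨Or.inr rfl, by omega⟩⟩
  | oplus n =>
    change 5 ≤ n at hr
    have h0 : n % 2 = 0 := hII
    refine ⟨n, n - 2, by omega, by omega, ?_, Or.inr ⟨rfl, by omega⟩⟩
    rw [dimL, if_pos h0]
    omega
  | _ => exact hII.elim

variable {t t' : Fam} {p f v f' : ℕ} {L : Type w} [Group L] [Finite L] {G : Type u} [Group G] [Finite G]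
  {K : Subgroup G} [K.Normal] {S : Subgroup (G ⧸ K)} [S.Normal]

/-- **The exotic family `IIA` does not occur**, if the third class is good. -/
theorem exo_iia' (h : LS t p f L G) (his : Fam.Is p f L t) (hF : Frm G K S t' v f') (hn5 : 5 ≤ rk t)
    {i j i' j' w H H' : ℕ} (D : Duel t p f i j t' v f' i' j' w H S)
    (hH' : ttor t (p ^ f) j = H' * ttor t' (v ^ f') j') (hE : ExoIIA t t' (v ^ f') i' j' H H')
    (hgood : ∀ z : ℕ, z.Prime → cls t (p ^ f) z = 2 * (dimL t - 1) → z ∣ Nat.card S) : False := by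
  obtain ⟨m, hII, ht', hsm, rfl, hj', rfl, rfl⟩ := hE
  obtain ⟨y, hy⟩ : ∃ y : ℤ, IsAA t' i' (v ^ f') y := by
    rcases ht' with ht | ht
    · exact ⟨_, Or.inl ⟨ht, rfl⟩⟩
    · exact ⟨_, Or.inr ⟨ht, rfl⟩⟩
  obtain ⟨n, m0, hm2, hm4, hD, hshape⟩ := fam_shape hII hn5
  have hf1 := h.fpos
  have hf1' := D.f'_pos
  have hp := h.prime
  have hvp := D.v_prime
  have hp3 : 3 ≤ p := by
    have := h.prime.two_le
    have := D.p_ne
    omega
  have hq3 : 3 ≤ p ^ f := hp3.trans (Nat.le_self_pow (by omega) p)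
  have hq2 : p ^ f % 2 = 1 := Nat.odd_iff.1 ((hp.odd_of_ne_two D.p_ne).pow)
  have hu2 : 2 ≤ v ^ f' := D.v_prime.two_le.trans (Nat.le_self_pow (by omega) _)
  have hyu := hy.abs_eq
  rw [hy.usg_eq (by omega)] at hsm
  have hM := D.eqM
  rw [hy.usg_eq (by omega)] at hM
  have hm' := hy.le hF.is
  obtain ⟨W1, W2⟩ := hy.val hm' hu2
  rw [Nat.gcd_eq_right hsm] at W1 W2
  obtain ⟨V1, V2⟩ := fam_val hII (by omega) hq3 hq2 D.pair
  rw [hD] at V1 V2
  obtain rfl : j' = i' - 1 := by omega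
  have hMs : ttor t (p ^ f) i * (y - 1).natAbs = ua y i' := by rw [hM, ← W1]; ring
  have hNs : ttor t (p ^ f) j * (y - 1).natAbs = y.natAbs * ua y (i' - 1) := by rw [hH', hyu, ← W2]; ring
  have hy2 : 2 ≤ y.natAbs := by omega
  obtain ⟨x, hx, heq⟩ := mk_eq hy2 (by omega) (by omega : (m0 + 1) % 2 = 1) hMs hNs V1
  -- the third class
  have hcl3 : 3 ≤ 2 * m0 := by omega
  obtain ⟨z, hz, hzc⟩ := exists_cls (t := t) (q := p ^ f) (i := 2 * m0) (by omega) hcl3 (by omega)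
  have hzS := hgood z hz (by rw [hzc, hD]; rfl)
  have hzp : z ≠ p := by
    rintro rfl
    exact (cls_facts hz (by rw [hzc]; exact hcl3)).2.1 (dvd_pow_self z (by omega))
  have hco : orderOf ((p ^ f : ℕ) : ZMod z) = 2 * m0 := by
    rw [← hzc]
    have h1 : ∀ k, t ≠ .psu k := by
      rintro k rfl
      exact hII.elim
    rw [cls_eq_co h1]
    rfl
  have hnot : ¬ z ∣ ttor t (p ^ f) i * ttor t (p ^ f) j := by
    intro hd
    have h1 : ((p ^ f : ℕ) : ZMod z) ^ (2 * (m0 + 1)) = 1 := by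
      obtain ⟨c, hc⟩ := hd
      have h2 := congrArg (Nat.cast : ℕ → ZMod z) V2
      rw [hc] at h2
      push_cast at h2
      rw [ZMod.natCast_self, zero_mul, mul_zero, zero_add] at h2
      push_cast
      exact h2.symm
    have h2 := orderOf_dvd_of_pow_eq_one h1
    rw [hco] at h2
    have h3 : m0 ∣ m0 + 1 := Nat.dvd_of_mul_dvd_mul_left (by norm_num) h2
    have h4 : m0 ∣ 1 := (Nat.dvd_add_right dvd_rfl).1 h3
    have := Nat.le_of_dvd (by norm_num) h4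
    omega
  have hzM : ¬ z ∣ ttor t (p ^ f) i := fun hd => hnot (hd.mul_right _)
  have hzN : ¬ z ∣ ttor t (p ^ f) j := fun hd => hnot (hd.mul_left _)
  have hzs : ¬ z ∣ (y - 1).natAbs := fun hd => hzM (hd.trans ⟨_, hM⟩)
  have hzu : ¬ z ∣ v := fun hd => hzN ((hd.trans (dvd_pow_self v (by omega))).trans ⟨_, hH'⟩)
  have hz1 : ¬ z ∣ ua y i' := by
    rw [← hMs, hz.dvd_mul, not_or]
    exact ⟨hzM, hzs⟩
  have hz2 : ¬ z ∣ ua y (i' - 1) := by
    intro hd
    have h1 : z ∣ ttor t (p ^ f) j * (y - 1).natAbs := by rw [hNs]; exact hd.mul_left _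
    rcases hz.dvd_mul.1 h1 with h2 | h2
    · exact hzN h2
    · exact hzs h2
  have hfz := Fact.mk hz
  obtain ⟨k, hk⟩ : ∃ k, k = cls t' (v ^ f') z := ⟨_, rfl⟩
  have hcd : ∀ a, z ∣ ua y a ↔ k ∣ a := fun a => by rw [hk, hy.cls_eq, dvd_ua_iff]
  rw [hcd] at hz1 hz2
  have hyz : ((y : ℤ) : ZMod z) ≠ 0 := by
    rw [Ne, ZMod.intCast_zmod_eq_zero_iff_dvd, Int.natCast_dvd, hy.abs_eq]
    exact fun hd => hzu (hz.dvd_of_dvd_pow hd)
  have hk1 : 1 ≤ k := by
    rw [hk, hy.cls_eq]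
    exact orderOf_pos_iff.2 (isOfFinOrder_iff_pow_eq_one.2 ⟨z - 1, by have := hz.two_le; omega,
      ZMod.pow_card_sub_one_eq_one hyz⟩)
  have hk3 : 3 ≤ k := by
    by_contra hcon
    rcases (show k = 1 ∨ k = 2 by omega) with h1 | h1
    · exact hz1 (by rw [h1]; exact one_dvd _)
    · rcases Nat.even_or_odd i' with h2 | h2
      · exact hz1 (by rw [h1]; exact h2.two_dvd)
      · exact hz2 (by rw [h1]; obtain ⟨c, hc⟩ := h2; omega)
  have hSF := adjFacts hF.cla hvp hF.is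
  have hz5 := (cls_facts hz (by rw [hzc]; exact hcl3)).1
  have hmem := (hSF.dvd z hz (by omega) hzu (by rw [← hk]; exact hk3)).1 hzS
  rw [← hk] at hmem
  have hkm := hy.mem_iff.1 hmem
  have hk2 : k + 2 ≤ i' := by
    have h1 : k ≠ i' := fun h0 => hz1 (by rw [h0])
    have h2 : k ≠ i' - 1 := fun h0 => hz2 (by rw [h0])
    omega
  have hzk : z ∣ ua y k := (hcd _).2 dvd_rfl
  have fin : ∀ N, (∃ g : S, orderOf g = N) → z ∣ N → TOK (p ^ f) m0 N := by
    intro N hN hzN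
    obtain ⟨g, rfl⟩ := (h.ord N).1 (exists_of_S hN)
    exact third hshape hp D.p_ne his hm4 hz hzp hzN hzc
  have hT1 := fin _ (hy.tor_one hF.is (by omega) hk1 hk2) hzk
  refine num_false (x := x) (y := y) (n := m0 + 1) (m := i') (k := k) (by rw [hx]; exact hq3) hy2 (by omega) (by omega) hk1 hk2 heq hsm ?_ ?_
  · rw [hx, Nat.add_sub_cancel]
    exact hT1.1
  · intro b hb hkb
    rw [hx, Nat.add_sub_cancel]
    exact (Nat.dvd_lcm_right (ua y k) _).trans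
      (fin _ (hy.tor hF.is (by omega) hk1 hb hkb) (hzk.trans (Nat.dvd_lcm_left _ _))).2

/-- the ranks for which the third class is good -/
theorem good_third (h : LS t p f L G) (hR : Red G K S) (hF : Frm G K S t' v f') (hp2 : p ≠ 2) (hII : FamII t)
    (hn : 5 ≤ rk t) (h6 : t ≠ .oplus 6) {z : ℕ} (hz : z.Prime) (hzc : cls t (p ^ f) z = 2 * (dimL t - 1)) :
    z ∣ Nat.card S := by
  have hq3 := h.q_three hp2
  cases t with
  | psp n =>
    change 5 ≤ n at hn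
    have h0 : n % 2 = 1 := hII
    change cls _ _ _ = 2 * (n - 1) at hzc
    rcases Nat.lt_or_ge n 7 with h7 | h7
    · obtain rfl : n = 5 := by omega
      exact (h.good_small hR hF hq3 (i := 8) (by decide) hz hzc).2
    · have h1 := eta_two_mul' (n - 1)
      exact (h.good_big hR hF h7 trivial (i := 2 * (n - 1)) ⟨by omega, show eta _ ≤ n by omega,
        show n < 2 * eta _ by omega⟩ hz hzc).2
  | oodd n =>
    change 5 ≤ n at hn
    have h0 : n % 2 = 1 := hII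
    change cls _ _ _ = 2 * (n - 1) at hzc
    rcases Nat.lt_or_ge n 7 with h7 | h7
    · obtain rfl : n = 5 := by omega
      exact (h.good_small hR hF hq3 (i := 8) (by decide) hz hzc).2
    · have h1 := eta_two_mul' (n - 1)
      exact (h.good_big hR hF h7 trivial (i := 2 * (n - 1)) ⟨by omega, show eta _ ≤ n by omega,
        show n < 2 * eta _ by omega⟩ hz hzc).2
  | oplus n =>
    change 5 ≤ n at hn
    have h0 : n % 2 = 0 := hII
    have hd : dimL (.oplus n) = n - 1 := by rw [dimL, if_pos h0]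
    rw [hd] at hzc
    have h7 : 8 ≤ n := by
      by_contra hcon
      exact h6 (by rw [show n = 6 by omega])
    have h1 := eta_two_mul' (n - 1 - 1)
    exact (h.good_big hR hF (show 7 ≤ n by omega) trivial (i := 2 * (n - 1 - 1)) ⟨by omega,
      Or.inl (by omega), show n < 2 * eta _ by omega⟩ hz hzc).2
  | _ => exact hII.elim

/-- **The exotic family `IIA` does not occur.** -/
theorem exo_iia (h : LS t p f L G) (his : Fam.Is p f L t) (hR : Red G K S) (hF : Frm G K S t' v f') (hn5 : 5 ≤ rk t)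
    (h6 : t ≠ .oplus 6) {i j i' j' w H H' : ℕ} (D : Duel t p f i j t' v f' i' j' w H S)
    (hH' : ttor t (p ^ f) j = H' * ttor t' (v ^ f') j') (hE : ExoIIA t t' (v ^ f') i' j' H H') : False :=
  exo_iia' h his hF hn5 D hH' hE fun _ hz hzc => good_third h hR hF D.p_ne (by
    obtain ⟨m, hII, -⟩ := hE
    exact hII) hn5 h6 hz hzc

end Cfsg.Agent.R2.Spec.IIA
end
end

-- part: R2/Spec/IIA/Six
section
set_option linter.all false
open scoped Cfsg.Agent.FastGrp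

-- part: R2/Spec/IIA/DA
section
/-!
# Packet EXO-DA (S3435) (helper4)

`exo_da` : the exotic family `ExoDA` does not occur.
-/

set_option autoImplicit false

namespace Cfsg.Agent.R2.Spec.IIA

open Cfsg Cfsg.Agent.H426.LieFam Cfsg.Agent.R2.Spec Cfsg.Agent.R2.Spec.P1 Cfsg.Agent.R2.Spec.F1
open Cfsg.Agent.R2.Spec.E Cfsg.Agent.R2.Spec.X7 Cfsg.Agent.R2.Spec.AA Cfsg.Agent.H420.QR

universe u w

theorem c9_64 : ∀ k < 8, (9 : ZMod 64) ^ k + 7 = 0 → k = 7 := by decide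
theorem c2_17 : ∀ k < 8, (2 : ZMod 17) ^ k = 9 → k = 7 := by decide

/-- `9 ^ k + 7 = 2 ^ c`, `c` even -/
theorem nine_seven {k c : ℕ} (hc : 6 ≤ c) (h : 9 ^ k + 7 = 2 ^ c) : c % 8 = 7 := by
  have h1 : (9 : ZMod 64) ^ (k % 8) + 7 = 0 := by
    have h2 := congrArg (Nat.cast : ℕ → ZMod 64) h
    push_cast at h2
    have h3 : (2 : ZMod 64) ^ c = 0 := by
      obtain ⟨e, rfl⟩ := Nat.exists_eq_add_of_le hc
      rw [pow_add, show (2 : ZMod 64) ^ 6 = 0 by decide, zero_mul]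
    rw [h3, ← Nat.div_add_mod k 8, pow_add, pow_mul, show (9 : ZMod 64) ^ 8 = 1 by decide, one_pow, one_mul] at h2
    exact h2
  have h4 := c9_64 _ (Nat.mod_lt _ (by norm_num)) h1
  apply c2_17 _ (Nat.mod_lt _ (by norm_num))
  have h2 := congrArg (Nat.cast : ℕ → ZMod 17) h
  push_cast at h2
  rw [← Nat.div_add_mod k 8, pow_add, pow_mul, show (9 : ZMod 17) ^ 8 = 1 by decide, one_pow, one_mul, h4] at h2
  rw [← Nat.div_add_mod c 8, pow_add, pow_mul, show (2 : ZMod 17) ^ 8 = 1 by decide, one_pow, one_mul] at h2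
  rw [← h2]
  decide

/-- `9 ^ k = 2 ^ c + 1` -/
theorem nine_one {k c : ℕ} (hc : 4 ≤ c) (h : 9 ^ k = 2 ^ c + 1) : False := by
  have h1 : k % 2 = 0 := by
    have h2 := congrArg (Nat.cast : ℕ → ZMod 16) h
    push_cast at h2
    have h3 : (2 : ZMod 16) ^ c = 0 := by
      obtain ⟨e, rfl⟩ := Nat.exists_eq_add_of_le hc
      rw [pow_add, show (2 : ZMod 16) ^ 4 = 0 by decide, zero_mul]
    rw [h3, ← Nat.div_add_mod k 2, pow_add, pow_mul, show (9 : ZMod 16) ^ 2 = 1 by decide, one_pow, one_mul] at h2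
    rcases Nat.mod_two_eq_zero_or_one k with h4 | h4
    · exact h4
    · rw [h4] at h2
      exact absurd h2 (by decide)
  obtain ⟨e, he⟩ : ∃ e, k = 2 * e := ⟨k / 2, by omega⟩
  have h2 : (5 : ℕ) ∣ 2 ^ c := by
    have h3 : 81 ^ e = 2 ^ c + 1 := by rw [← h, he, pow_mul]; norm_num
    have h4 : 81 ^ e % 5 = 1 := by rw [Nat.pow_mod]; norm_num
    omega
  have h3 := Nat.Prime.dvd_of_dvd_pow (by norm_num) h2
  omega

/-- **The numbers.** -/
theorem da_num {n m f u W : ℕ} {y : ℤ} (hn : 4 ≤ n) (hu : u = 2 ^ f) (hf : 1 ≤ f) (hyu : y = u ∨ y = -(u : ℤ))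
    (h3 : 3 ∣ (y - 1).natAbs) (hm : 2 ≤ m) (hW : W * (y - 1).natAbs = ua y (m - 1)) (h : 3 ^ n + 1 = 2 * u * W) :
    False := by
  -- `3 ^ n + 1` is `2` or `4` modulo `8`
  have h8 : 3 ^ n % 8 = 1 ∨ 3 ^ n % 8 = 3 ∧ n % 2 = 1 := by
    rw [← Nat.div_add_mod n 2, pow_add, pow_mul, Nat.mul_mod, Nat.pow_mod]
    rcases Nat.mod_two_eq_zero_or_one n with h4 | h4 <;> rw [h4] <;> norm_num
  have hu1 : f = 1 := by
    by_contra hne
    obtain ⟨e, rfl⟩ : ∃ e, f = 2 + e := ⟨f - 2, by omega⟩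
    have h5 : 8 ∣ 3 ^ n + 1 := by
      rw [h, hu, pow_add]
      exact ⟨2 ^ e * W, by ring⟩
    omega
  subst hu1
  rw [pow_one] at hu
  subst hu
  have hy : y = -2 := by
    rcases hyu with rfl | rfl
    · norm_num at h3
    · rfl
  subst hy
  have h9 : ((-2 : ℤ) - 1).natAbs = 3 := by decide
  rw [h9] at hW
  have h10 : 3 ^ n % 8 = 3 ∧ n % 2 = 1 := by omega
  obtain ⟨k, hk⟩ : ∃ k, n + 1 = 2 * k := ⟨(n + 1) / 2, by omega⟩
  have h11 : 3 ^ (n + 1) = 9 ^ k := by rw [hk, pow_mul]; norm_num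
  have h12 : 3 ^ (n + 1) = 3 * 3 ^ n := pow_succ' 3 n
  have h13 : 3 ^ 4 ≤ 3 ^ n := Nat.pow_le_pow_right (by norm_num) hn
  norm_num at h13
  have h14 : 2 ^ (m + 1) = 4 * 2 ^ (m - 1) := by
    rw [show m + 1 = 2 + (m - 1) by omega, pow_add]; norm_num
  rcases Nat.even_or_odd (m - 1) with hm2 | hm2
  · have h15 : ua (-2) (m - 1) = 2 ^ (m - 1) - 1 := by
      rw [ua, hm2.neg_pow]
      have : (2 : ℤ) ^ (m - 1) = ((2 ^ (m - 1) : ℕ) : ℤ) := by push_cast; rfl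
      rw [this]
      have := Nat.one_le_pow (m - 1) 2 (by norm_num)
      omega
    rw [h15] at hW
    have h16 : 9 ^ k + 7 = 2 ^ (m + 1) := by
      have := Nat.one_le_pow (m - 1) 2 (by norm_num)
      omega
    have h17 : 6 ≤ m + 1 := by
      by_contra hcon
      have : 2 ^ (m + 1) ≤ 2 ^ 5 := Nat.pow_le_pow_right (by norm_num) (by omega)
      norm_num at this
      omega
    have h18 := nine_seven h17 h16
    obtain ⟨c, hc⟩ := hm2
    omega
  · have h15 : ua (-2) (m - 1) = 2 ^ (m - 1) + 1 := by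
      rw [ua, hm2.neg_pow]
      have : (2 : ℤ) ^ (m - 1) = ((2 ^ (m - 1) : ℕ) : ℤ) := by push_cast; rfl
      rw [this]
      omega
    rw [h15] at hW
    have h16 : 9 ^ k = 2 ^ (m + 1) + 1 := by omega
    refine nine_one (c := m + 1) ?_ h16
    by_contra hcon
    have : 2 ^ (m + 1) ≤ 2 ^ 3 := Nat.pow_le_pow_right (by norm_num) (by omega)
    norm_num at this
    omega

variable {t t' : Fam} {p f v f' : ℕ} {L : Type w} [Group L] [Finite L] {G : Type u} [Group G] [Finite G]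
  {K : Subgroup G} [K.Normal] {S : Subgroup (G ⧸ K)} [S.Normal]

/-- **The characteristic of `S` in the second number** (`LS.v_low` for every isolated class of `S`). -/
theorem v_low' (h : LS t p f L G) (hL : Fam.Is p f L t) (hR : Red G K S) (hF : Frm G K S t' v f') (hS : BigS t')
    (hp2 : p ≠ 2) (hvp : v ≠ p) (hT : IsoRk t) (hn : 5 ≤ rk t) {i j : ℕ} (hij : PairOK t i j)
    (hvM : ¬ v ∣ ttor t (p ^ f) i) (hvN : v ∣ ttor t (p ^ f) j) {w1 : ℕ} (hw1 : In t (p ^ f) j w1)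
    (hr3 : 3 ≤ cls t' (v ^ f') w1) (hA : nap t' (cls t' (v ^ f') w1)) : cls t (p ^ f) v ≤ 2 ∨ ∃ m, t' = .ominus m := by
  by_contra hcon
  rw [not_or, not_le] at hcon
  obtain ⟨hk, hno⟩ := hcon
  have hq3 := h.q_three hp2
  obtain ⟨hi3, him, hin, hib, hije⟩ := pair_left hij hn
  obtain ⟨hj3, hjm, hjn, hjb, -⟩ := pair_left (pair_symm hij) hn
  have htf := top_facts_all h.cla h.prime hL
  -- `v` as a prime of `L`
  have hv5 := (cls_facts hF.prime (show 3 ≤ cls t (p ^ f) v by omega)).1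
  have hvG : v ∣ Nat.card G := by
    rw [card_eq_mul (K := K) (S := S)]
    exact Dvd.dvd.mul_right hF.vdvd _
  have hvp' : ¬ v ∣ p := fun hd => hvp ((Nat.prime_dvd_prime_iff_eq hF.prime h.prime).1 hd)
  have hvm : mem t (cls t (p ^ f) v) :=
    (h.adj.dvd v hF.prime (by omega) hvp' (by omega)).1 ((h.dvd_iff hF.prime).1 hvG)
  have hvI : In t (p ^ f) (cls t (p ^ f) v) v := ⟨hF.prime, rfl, by omega, hvm⟩
  obtain ⟨a, b, ha, hb, hab, hka, hkb⟩ := top_two' h.cla hn (show 3 ≤ cls t (p ^ f) v by omega) hvm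
  -- the second class is adjacent to `v`
  have hw1v : w1 ≠ v := h.iso_ne_v hR hF hS hp2 hvp.symm hT hw1 hjn
  have hjv : ¬ na t (cls t (p ^ f) v) j := by
    intro hna
    have hne := hvI.ne hw1 (na_ne hna)
    have hw1N : w1 ∣ ttor t (p ^ f) j := by
      have hfr := Fact.mk hw1.prime
      obtain ⟨y, hy⟩ := exists_prime_orderOf_dvd_card' (G := L) w1 ((h.dvd_iff hw1.prime).1 (hw1.dvd h))
      have := htf.ub w1 hw1.prime (hw1.not_dvd h.fpos)
        (by rw [hw1.cls_eq]; exact top_of_iso h.cla hj3 hjm hjn) y (by rw [hy])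
      rw [hw1.cls_eq, hy] at this
      exact this
    obtain ⟨x, hx⟩ := htf.elt _ (top_of_iso h.cla hj3 hjm hjn)
    have hN0 : ttor t (p ^ f) j ≠ 0 := by rw [← hx]; exact (orderOf_pos x).ne'
    have h1 : ∃ g : G, orderOf g = v * w1 := exists_dvd_order hN0
      (((Nat.coprime_primes hF.prime hw1.prime).2 hne).mul_dvd_of_dvd_of_dvd hvN hw1N) ((h.ord _).2 ⟨x, hx⟩)
    exact (h.adj_iff hvI hw1 hne).1 h1 hna
  -- a third class
  obtain ⟨l, hl, hli, hlj, hkl⟩ : ∃ l, Big t l ∧ l ≠ i ∧ l ≠ j ∧ na t (cls t (p ^ f) v) l := by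
    by_cases h1 : a = i
    · refine ⟨b, hb, fun h2 => hab (by rw [h1, h2]), fun h2 => hjv (by rw [← h2]; exact hkb), hkb⟩
    · exact ⟨a, ha, h1, fun h2 => hjv (by rw [← h2]; exact hka), hka⟩
  obtain ⟨w2, hw2⟩ := exists_in h hq3 hl.1 hl.2.1
  obtain ⟨w0, hw0⟩ := exists_in h hq3 hi3 him
  have hgj : ¬ w1 ∣ Nat.card K * S.index ∧ w1 ∣ Nat.card S :=
    h.good_iso hR hF hp2 hT hw1.prime (by rw [hw1.cls_eq]; exact hj3) (by rw [hw1.cls_eq]; exact hjm)
      (by rw [hw1.cls_eq]; exact hjn)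
  have hgi : ¬ w0 ∣ Nat.card K * S.index ∧ w0 ∣ Nat.card S :=
    h.good_iso hR hF hp2 hT hw0.prime (by rw [hw0.cls_eq]; exact hi3) (by rw [hw0.cls_eq]; exact him)
      (by rw [hw0.cls_eq]; exact hin)
  have hw0v : w0 ≠ v := h.iso_ne_v hR hF hS hp2 hvp.symm hT hw0 hin
  have hw2v : w2 ≠ v := (hvI.ne hw2 (na_ne hkl)).symm
  have hna2 : ¬ ∃ g : G, orderOf g = v * w2 := fun hg => (h.adj_iff hvI hw2 hw2v.symm).1 hg hkl
  have hg2 := hF.good_of_na_v hS hw2.prime hw2.five hw2v (hw2.dvd h) hna2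
  have hna0 : ¬ ∃ g : G, orderOf g = v * w0 := by
    rintro ⟨g, hg⟩
    obtain ⟨y, hy⟩ := (h.ord _).1 ⟨g, hg⟩
    have := htf.ub w0 hw0.prime (hw0.not_dvd h.fpos)
      (by rw [hw0.cls_eq]; exact top_of_iso h.cla hi3 him hin) y (by rw [hy]; exact Dvd.intro_left _ rfl)
    rw [hw0.cls_eq, hy] at this
    exact hvM ((Dvd.intro _ rfl).trans this)
  have hna1 : ¬ ∃ g : S, orderOf g = v * w1 := by
    intro hg
    have h2 := (adjFacts hF.cla hF.prime hF.is).adjp w1 hw1.prime hw1.ne_two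
      (fun hd => hw1v ((Nat.prime_dvd_prime_iff_eq hw1.prime hF.prime).1 hd)) hr3
      (hF.mem_cls hw1.prime hw1.ne_two hgj.2 hr3)
    exact h2.1 (by rwa [mul_comm]) hA
  have n01 := h.not_adj_S (S := S) hw0 hw1 (na_of_big h.cla ⟨hi3, him, hib⟩ ⟨hj3, hjm, hjb⟩ hije)
  have n02 := h.not_adj_S (S := S) hw0 hw2 (na_of_big h.cla ⟨hi3, him, hib⟩ hl (Ne.symm hli))
  have n12 := h.not_adj_S (S := S) hw1 hw2 (na_of_big h.cla ⟨hj3, hjm, hjb⟩ hl (Ne.symm hlj))
  have d01 := hw0.ne hw1 hije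
  have d02 := hw0.ne hw2 (Ne.symm hli)
  have d12 := hw1.ne hw2 (Ne.symm hlj)
  have hsym : ∀ {x y : ℕ}, (¬ ∃ g : S, orderOf g = x * y) → ¬ ∃ g : S, orderOf g = y * x := by
    intro x y hxy
    rwa [mul_comm]
  have hfew := hF.v_few (X := {w0, w1, w2}) (by
    intro x hx
    rw [Finset.mem_insert, Finset.mem_insert, Finset.mem_singleton] at hx
    rcases hx with rfl | rfl | rfl
    · exact ⟨hw0.prime, hw0.five, hw0v, hgi.2⟩
    · exact ⟨hw1.prime, hw1.five, hw1v, hgj.2⟩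
    · exact ⟨hw2.prime, hw2.five, hw2v, hg2.2⟩) (by
    intro x hx
    rw [Finset.mem_insert, Finset.mem_insert, Finset.mem_singleton] at hx
    rcases hx with rfl | rfl | rfl
    · exact fun hg => hna0 (exists_of_S hg)
    · exact hna1
    · exact fun hg => hna2 (exists_of_S hg)) (by
    intro x hx y hy hxy
    rw [Finset.mem_insert, Finset.mem_insert, Finset.mem_singleton] at hx hy
    rcases hx with rfl | rfl | rfl <;> rcases hy with rfl | rfl | rfl
    · exact absurd rfl hxy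
    · exact n01
    · exact n02
    · exact hsym n01
    · exact absurd rfl hxy
    · exact n12
    · exact hsym n02
    · exact hsym n12
    · exact absurd rfl hxy)
  have hcard : ({w0, w1, w2} : Finset ℕ).card = 3 := Finset.card_eq_three.2 ⟨w0, w1, w2, d01, d02, d12, rfl⟩
  exact hno (hfew.2 (by rw [hcard])).1


/-- **The exotic family `DA` does not occur.** -/
theorem exo_da (h : LS t p f L G) (his : Fam.Is p f L t) (hR : Red G K S) (hF : Frm G K S t' v f') (hn5 : 5 ≤ rk t)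
    {i j i' j' w H : ℕ} (D : Duel t p f i j t' v f' i' j' w H S) (ht' : top t' j')
    (hE : ExoDA t (p ^ f) t' (v ^ f')) : False := by
  obtain ⟨n, m, W, rfl, hq, hfam, h3s, h3m, hW, hnum⟩ := hE
  obtain ⟨y, hy⟩ : ∃ y : ℤ, IsAA t' m (v ^ f') y := by
    rcases hfam with ht | ht
    · exact ⟨_, Or.inl ⟨ht, rfl⟩⟩
    · exact ⟨_, Or.inr ⟨ht, rfl⟩⟩
  change 5 ≤ n at hn5
  have hf1 := h.fpos
  have hf1' := D.f'_pos
  have hp := h.prime
  have hvp := D.v_prime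
  have hp2 := D.p_ne
  have hu2 : 2 ≤ v ^ f' := D.v_prime.two_le.trans (Nat.le_self_pow (by omega) _)
  have hq3 := h.q_three hp2
  rw [hy.usg_eq (by omega)] at h3s hW
  have hm' := hy.le hF.is
  obtain ⟨W1, W2⟩ := hy.val hm' hu2
  rw [hy.dgL_eq (by omega), W2] at hW
  -- `v` divides `3 ^ n + 1`
  have hv3 : v ∣ 3 ^ n + 1 := by
    rw [hnum]
    exact ((dvd_pow_self v (by omega)).mul_left 2).mul_right W
  by_cases hv2 : v = 2
  · subst hv2
    refine da_num (n := n) (m := m) (f := f') (u := 2 ^ f') (W := W) (y := y) (by omega) rfl hf1' ?_ h3s hm' hW hnum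
    rcases hy with ⟨-, rfl⟩ | ⟨-, rfl⟩
    · exact Or.inl rfl
    · exact Or.inr rfl
  · -- `v` odd
    have hT : IsoRk (.ominus n) := hn5
    obtain ⟨h1, -, -⟩ := val_ominus (n := n) (q := p ^ f) (by omega) (by omega)
    have hvt : v ∣ ttor (.ominus n) (p ^ f) (2 * n) := by
      have h2 : v ∣ ttor (.ominus n) (p ^ f) (2 * n) * Nat.gcd 4 ((p ^ f) ^ n + 1) := by
        rw [h1, hq]; exact hv3
      rcases hvp.dvd_mul.1 h2 with h3 | h3
      · exact h3
      · exfalso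
        have h4 : v ∣ 2 ^ 2 := h3.trans (Nat.gcd_dvd_left _ _)
        exact hv2 ((Nat.prime_dvd_prime_iff_eq hvp Nat.prime_two).1 (hvp.dvd_of_dvd_pow h4))
    have hvN : v ∣ ttor (.ominus n) (p ^ f) j := by
      rcases D.pair with ⟨rfl, rfl⟩ | ⟨rfl, rfl⟩
      · exact absurd hvt D.vM
      · exact hvt
    obtain ⟨hj3, hjm, hjn, hjb, -⟩ := pair_left (pair_symm D.pair) hn5
    have hw1 : In (.ominus n) (p ^ f) j w := ⟨D.w_prime, D.clsw, hj3, hjm⟩
    have hnap : nap t' (cls t' (v ^ f') w) := by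
      rw [D.clsw']
      have h5 := hy.top_iff.1 ht'
      rcases hfam with rfl | rfl
      · exact show m < j' + 2 by omega
      · exact show m < j' + 2 by omega
    rcases v_low' h his hR hF D.big hp2 D.vp hT hn5 D.pair D.vM hvN hw1 (by rw [D.clsw']; exact D.j'3) hnap with h6 | h6
    · -- `v` divides `8`
      have hvne : ¬ v ∣ p ^ f := by
        intro hd
        exact D.vp ((Nat.prime_dvd_prime_iff_eq hvp hp).1 (hvp.dvd_of_dvd_pow hd))
      have hco : cls (.ominus n) (p ^ f) v = orderOf ((p ^ f : ℕ) : ZMod v) := by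
        rw [cls_eq_co (fun _ h => by cases h)]; rfl
      rw [hco, hq] at h6
      have hfv := Fact.mk hvp
      have h7 : (((3 : ℕ) : ℕ) : ZMod v) ^ 2 = 1 := by
        have hpos : 0 < orderOf (((3 : ℕ) : ℕ) : ZMod v) := by
          refine orderOf_pos_iff.2 (isOfFinOrder_iff_pow_eq_one.2 ⟨v - 1, by have := hvp.two_le; omega,
            ZMod.pow_card_sub_one_eq_one ?_⟩)
          rw [Ne, ZMod.natCast_eq_zero_iff, ← hq]
          exact hvne
        have h8 : orderOf (((3 : ℕ) : ℕ) : ZMod v) ∣ 2 := by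
          rcases (show orderOf (((3 : ℕ) : ℕ) : ZMod v) = 1 ∨ orderOf (((3 : ℕ) : ℕ) : ZMod v) = 2 by omega) with h9 | h9 <;>
            rw [h9] <;> norm_num
        exact orderOf_dvd_iff_pow_eq_one.1 h8
      have h8 : ((8 : ℕ) : ZMod v) = 0 := by
        push_cast at h7 ⊢
        linear_combination h7
      rw [ZMod.natCast_eq_zero_iff] at h8
      have h9 : v ∣ 2 ^ 3 := h8
      exact hv2 ((Nat.prime_dvd_prime_iff_eq hvp Nat.prime_two).1 (hvp.dvd_of_dvd_pow h9))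
    · obtain ⟨m1, hm1⟩ := h6
      rcases hfam with rfl | rfl <;> cases hm1

end Cfsg.Agent.R2.Spec.IIA
end

-- part: R2/Spec/IIA/Six
section
/-!
# Packet EXO-IIA (S3435): the group `PΩ^+_12(q)` (helper4)

`exo_iia_all` : the exotic family `ExoIIA` does not occur in rank at least five.
-/

set_option autoImplicit false

namespace Cfsg.Agent.R2.Spec.IIA

open Cfsg Cfsg.Agent.H426.LieFam Cfsg.Agent.R2.Spec Cfsg.Agent.R2.Spec.P1 Cfsg.Agent.R2.Spec.F1
open Cfsg.Agent.R2.Spec.E Cfsg.Agent.R2.Spec.X7 Cfsg.Agent.R2.Spec.AA Cfsg.Agent.H420.QR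

universe u w

variable {t t' : Fam} {p f v f' : ℕ} {L : Type w} [Group L] [Finite L] {G : Type u} [Group G] [Finite G]
  {K : Subgroup G} [K.Normal] {S : Subgroup (G ⧸ K)} [S.Normal]

/-- **Good primes from a coclique of four classes with a killer**, `S` not `Ω⁻`. -/
theorem good_four' (h : LS t p f L G) (hR : Red G K S) (hF : Frm G K S t' v f') (ht' : ∀ n, t' ≠ .ominus n)
    {I : Finset ℕ} {i : ℕ} (hi : i ∈ I) (hreg : ∀ j ∈ I, 3 ≤ j ∧ mem t j)
    (hna : ∀ j ∈ I, ∀ k ∈ I, j ≠ k → na t j k) (hex : ∀ j ∈ I, ∃ r : ℕ, r.Prime ∧ cls t (p ^ f) r = j)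
    (hk : Killer (fun j => j ∈ I) i) (h4 : 4 ≤ I.card) {r : ℕ} (hr : r.Prime) (hri : cls t (p ^ f) r = i) :
    ¬ r ∣ Nat.card K * S.index ∧ r ∣ Nat.card S := by
  classical
  have hrI : In t (p ^ f) i r := ⟨hr, hri, (hreg i hi).1, (hreg i hi).2⟩
  have hrG := hrI.dvd h
  suffices hnb : ¬ r ∣ Nat.card K * S.index by
    refine ⟨hnb, ?_⟩
    rw [card_eq_mul (K := K) (S := S)] at hrG
    exact (hr.dvd_mul.1 hrG).resolve_right hnb
  intro hbad
  choose! z hz using hex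
  have hzI : ∀ j ∈ I, In t (p ^ f) j (z j) := fun j hj => ⟨(hz j hj).1, (hz j hj).2, (hreg j hj).1, (hreg j hj).2⟩
  have h3 : 3 ≤ I.card := by omega
  have hcard : (I.erase i).card = I.card - 1 := Finset.card_erase_of_mem hi
  have hJ : ∀ j ∈ I.erase i, In t (p ^ f) j (z j) := fun j hj => hzI j (Finset.mem_of_mem_erase hj)
  have hiJ : ∀ j ∈ I.erase i, na t i j := fun j hj =>
    hna i hi j (Finset.mem_of_mem_erase hj) (Finset.ne_of_mem_erase hj).symm
  have hJJ : ∀ j ∈ I.erase i, ∀ k ∈ I.erase i, j ≠ k → na t j k := fun j hj k hk =>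
    hna j (Finset.mem_of_mem_erase hj) k (Finset.mem_of_mem_erase hk)
  obtain ⟨hrK, hrd⟩ : ¬ r ∣ Nat.card K ∧ ¬ r ∣ dg t' (v ^ f') := by
    by_contra hcon
    rw [not_and_or, not_not, not_not] at hcon
    obtain ⟨-, ⟨-, -, n, hn⟩, -⟩ := h.few hR hF hrI hbad hcon hJ hiJ hJJ (by omega)
    exact ht' n hn
  refine killer_false hr hrI.five (X := sg t (p ^ f)) hri (hreg i hi).1 ?_ hk
  intro l hl hli
  obtain ⟨k, hk, hki, hkl⟩ := exists_third h3 i l
  exact h.hc hR hF hrI hbad hrK hrd (hreg l hl).1 (hreg l hl).2 (hna i hi l hl hli.symm)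
    ⟨k, z k, hzI k hk, hna i hi k hk hki.symm, hna l hl k hk hkl.symm⟩

/-- the class `8` of `PΩ^+_12(q)` -/
theorem good_oplus_six (h : LS (.oplus 6) p f L G) (hR : Red G K S) (hF : Frm G K S t' v f')
    (ht' : ∀ n, t' ≠ .ominus n) (hp2 : p ≠ 2) {r : ℕ} (hr : r.Prime) (hri : cls (.oplus 6) (p ^ f) r = 8) :
    ¬ r ∣ Nat.card K * S.index ∧ r ∣ Nat.card S := by
  have hq3 := h.q_three hp2
  obtain ⟨h1, h2⟩ := coqB_of (t := .oplus 6) (I := [3, 5, 8, 10]) (by decide)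
  refine good_four' h hR hF ht' (I := [3, 5, 8, 10].toFinset) (i := 8) (by decide) h1 h2
    (fun j hj => exists_cls h.q_pos (h1 j hj).1 fun hq2 => by omega) ?_ (by decide) hr hri
  right; right; right; right; right; right; left
  exact ⟨rfl, by decide, by decide⟩

/-- **The exotic family `IIA` does not occur.** -/
theorem exo_iia_all (h : LS t p f L G) (his : Fam.Is p f L t) (hR : Red G K S) (hF : Frm G K S t' v f')
    (hn5 : 5 ≤ rk t) {i j i' j' w H H' : ℕ} (D : Duel t p f i j t' v f' i' j' w H S)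
    (hH' : ttor t (p ^ f) j = H' * ttor t' (v ^ f') j') (hE : ExoIIA t t' (v ^ f') i' j' H H') : False := by
  by_cases h6 : t = .oplus 6
  · subst h6
    refine exo_iia' h his hF hn5 D hH' hE fun z hz hzc => ?_
    obtain ⟨m, -, ht', -⟩ := hE
    exact (good_oplus_six h hR hF (by
      rintro n rfl
      rcases ht' with h1 | h1 <;> cases h1) D.p_ne hz hzc).2
  · exact exo_iia h his hR hF hn5 h6 D hH' hE

end Cfsg.Agent.R2.Spec.IIA
end
end

-- part: R2/Spec/FIN/T3c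
section
set_option linter.all false

/-! # S3435, packet FIN, small ranks, `S = PSp_6(u)`, `Omega_7(u)`, `POmega^+_8(u)`: the search (helper7) -/

set_option autoImplicit false

namespace Cfsg.Agent.R2.Spec.FIN


theorem oplus6_three {q : ℕ} (h3 : 3 ≤ q) (ho : q % 2 = 1) (hq : q < 2 ^ 16) : chkT3 (2 ^ 10) (.oplus 6) q = true :=
  all3 (C := 1024) (dm := 1) (D := 5) (i := 5) (j := 10) (c := 65536) (t := .oplus 6)
    (fun q => Nat.div (Nat.sub (Nat.pow q 5) 1) (Nat.gcd 2 (Nat.sub q 1)))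
    (fun q => Nat.div (Nat.add (Nat.pow q 5) 1) (Nat.gcd 2 (Nat.sub q 1)))
    bk3a (by decide) rfl (by decide) (fun _ => Nat.le_refl 1) rfl (fun _ => rfl) (fun _ => rfl) (by decide +kernel) h3 ho hq

end Cfsg.Agent.R2.Spec.FIN
end

-- part: R2/Spec/FIN/T3b
section
set_option linter.all false

/-! # S3435, packet FIN, small ranks, `S = PSp_6(u)`, `Omega_7(u)`, `POmega^+_8(u)`: the search (helper7) -/

set_option autoImplicit false

namespace Cfsg.Agent.R2.Spec.FIN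


theorem oplus5_three {q : ℕ} (h3 : 3 ≤ q) (ho : q % 2 = 1) (hq : q < 2 ^ 16) : chkT3 (2 ^ 10) (.oplus 5) q = true :=
  all3 (C := 1024) (dm := 1) (D := 5) (i := 5) (j := 8) (c := 65536) (t := .oplus 5)
    (fun q => Nat.div (Nat.sub (Nat.pow q 5) 1) (Nat.gcd 4 (Nat.sub (Nat.pow q 5) 1)))
    (fun q => Nat.div (Nat.mul (Nat.add (Nat.pow q 4) 1) (Nat.add q 1)) (Nat.gcd 4 (Nat.sub (Nat.pow q 5) 1)))
    bk3a (by decide) rfl (by decide) (fun _ => Nat.le_refl 1) rfl (fun _ => rfl) (fun _ => rfl) (by decide +kernel) h3 ho hq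

end Cfsg.Agent.R2.Spec.FIN
end

-- part: R2/Spec/NA5/Brute5
section
prune_inst 0x2050400c8000000018000260001e06a2000100002b8001114007020e865f0328012621f4301e0211ccb2e458384048111001d90210000020003200411a00a0802d6e82c6fdaf0c7c000180b803580c00000000000000000000000000041004000000000
set_option linter.all false
open scoped Cfsg.Agent.FastGrp

/-!
# S3435, packet NON-A, `dimL t ≥ 5` (helper3): the leftover numbers are not the numbers of `L`
-/

set_option autoImplicit false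

namespace Cfsg.Agent.R2.Spec.NA5

open Cfsg Cfsg.Agent.H426.LieFam Cfsg.Agent.R2.Spec Cfsg.Agent.R2.Spec.P1 Cfsg.Agent.R2.Spec.E
open Cfsg.Agent.R2.Spec.NA
open Cfsg.Agent.H403.NumTop hiding nu

/-- the pairs of numbers of `L` -/
def valsP (n q : ℕ) : List (ℕ × ℕ) :=
  (if 6 ≤ n then [(ttor (.psl n) q n, ttor (.psl n) q (n - 1)), (ttor (.psl n) q (n - 1), ttor (.psl n) q n),
      (ttor (.psu n) q n, ttor (.psu n) q (n - 1)), (ttor (.psu n) q (n - 1), ttor (.psu n) q n)] else []) ++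
    [(ttor (.psp n) q n, ttor (.psp n) q (2 * n)), (ttor (.psp n) q (2 * n), ttor (.psp n) q n),
      (ttor (.ominus n) q (2 * n), ttor (.ominus n) q (2 * (n - 1))),
      (ttor (.ominus n) q (2 * (n - 1)), ttor (.ominus n) q (2 * n)),
      (ttor (.oplus n) q n, ttor (.oplus n) q (2 * (n - 1))), (ttor (.oplus n) q (2 * (n - 1)), ttor (.oplus n) q n),
      (ttor (.oplus n) q (n - 1), ttor (.oplus n) q (2 * (n - 1))),
      (ttor (.oplus n) q (2 * (n - 1)), ttor (.oplus n) q (n - 1))]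

def brq (M A n q : ℕ) : Bool := (valsP n q).all fun x => decide (x.1 ≠ M) || decide (x.2 % A ≠ 0)

def nloop (M A q : ℕ) (fuel : ℕ) : ℕ → Bool :=
  Nat.rec (motive := fun _ => ℕ → Bool) (fun _ => false)
    (fun _ ih n => decide (8 * (q + 1) * M < q ^ (n - 1)) || (brq M A n q && ih (n + 1))) fuel

def qloop (M A u : ℕ) (fuel : ℕ) : ℕ → Bool :=
  Nat.rec (motive := fun _ => ℕ → Bool) (fun _ => false)
    (fun _ ih q => decide (48 * M < q ^ 5) || ((decide (Nat.gcd q u ≠ 1) || nloop M A q 60 5) && ih (q + 2))) fuel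

/-- the check for one tuple -/
def brT (x : ℕ × Bool × ℕ × Bool × ℕ × ℕ) : Bool :=
  qloop (x.2.2.2.2.2 * ZZ x.2.1 x.2.2.2.1 x.1 x.2.2.2.2.1 / Nat.gcd x.1 (AA x.2.2.2.1 1 x.2.2.2.2.1))
    (AA x.2.2.2.1 x.2.2.1 x.2.2.2.2.1) x.2.2.2.2.1 3000 3

theorem nloop_succ {M A q fuel n : ℕ} :
    nloop M A q (fuel + 1) n = (decide (8 * (q + 1) * M < q ^ (n - 1)) || (brq M A n q && nloop M A q fuel (n + 1))) :=
  rfl

theorem nloop_spec {M A q : ℕ} (hq : 1 ≤ q) : ∀ {fuel n : ℕ}, nloop M A q fuel n = true → ∀ n', n ≤ n' →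
    q ^ (n' - 1) ≤ 8 * (q + 1) * M → brq M A n' q = true := by
  intro fuel
  induction fuel with
  | zero => intro n h; exact absurd h (by simp [nloop])
  | succ l ih =>
    intro n h n' hn hle
    rw [nloop_succ, Bool.or_eq_true, Bool.and_eq_true, decide_eq_true_eq] at h
    rcases h with h | ⟨h1, h2⟩
    · exfalso
      have h3 : q ^ (n - 1) ≤ q ^ (n' - 1) := Nat.pow_le_pow_right hq (Nat.sub_le_sub_right hn 1)
      omega
    · rcases Nat.eq_or_lt_of_le hn with rfl | hn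
      · exact h1
      · exact ih h2 n' hn hle

theorem qloop_succ {M A u fuel q : ℕ} :
    qloop M A u (fuel + 1) q =
      (decide (48 * M < q ^ 5) || ((decide (Nat.gcd q u ≠ 1) || nloop M A q 60 5) && qloop M A u fuel (q + 2))) :=
  rfl

theorem qloop_spec {M A u : ℕ} : ∀ {fuel q : ℕ}, qloop M A u fuel q = true → ∀ r, 
    (q + 2 * r) ^ 5 ≤ 48 * M → Nat.gcd (q + 2 * r) u = 1 → nloop M A (q + 2 * r) 60 5 = true := by
  intro fuel
  induction fuel with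
  | zero => intro q h; exact absurd h (by simp [qloop])
  | succ l ih =>
    intro q h r hle hg
    rw [qloop_succ, Bool.or_eq_true, Bool.and_eq_true, decide_eq_true_eq, Bool.or_eq_true, decide_eq_true_eq] at h
    rcases h with h | ⟨h1, h2⟩
    · exfalso
      have h3 : q ^ 5 ≤ (q + 2 * r) ^ 5 := Nat.pow_le_pow_left (by omega) 5
      omega
    · cases r with
      | zero =>
        rw [mul_zero, add_zero] at hle hg ⊢
        exact h1.resolve_left (fun h4 => h4 hg)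
      | succ r' =>
        rw [show q + 2 * (r' + 1) = q + 2 + 2 * r' by ring] at hle hg ⊢
        exact ih h2 r' hle hg

/-- none of the numbers is `M`; `a = q ^ (n - 1)`, `b = q ^ n` -/
def brF (M n q a b : ℕ) : Bool :=
  !(Nat.beq (Nat.div (Nat.sub b 1) (Nat.mul (Nat.sub q 1) (Nat.gcd n (Nat.sub q 1)))) M ||
    (Nat.beq (Nat.div (Nat.sub a 1) (Nat.gcd n (Nat.sub q 1))) M ||
    (Nat.beq (Nat.div (Nat.sub b 1) (Nat.mul (Nat.add q 1) (Nat.gcd n (Nat.add q 1)))) M ||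
    (Nat.beq (Nat.div (Nat.add b 1) (Nat.mul (Nat.add q 1) (Nat.gcd n (Nat.add q 1)))) M ||
    (Nat.beq (Nat.div (Nat.add a 1) (Nat.gcd n (Nat.add q 1))) M ||
    (Nat.beq (Nat.div (Nat.sub a 1) (Nat.gcd n (Nat.add q 1))) M ||
    (Nat.beq (Nat.div (Nat.sub b 1) (Nat.gcd 2 (Nat.sub q 1))) M ||
    (Nat.beq (Nat.div (Nat.add b 1) (Nat.gcd 2 (Nat.sub q 1))) M ||
    (Nat.beq (Nat.div (Nat.add b 1) (Nat.gcd 4 (Nat.add b 1))) M ||
    (Nat.beq (Nat.div (Nat.mul (Nat.add a 1) (Nat.sub q 1)) (Nat.gcd 4 (Nat.add b 1))) M ||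
    (Nat.beq (Nat.div (Nat.sub b 1) (Nat.gcd 4 (Nat.sub b 1))) M ||
    (Nat.beq (Nat.div (Nat.add a 1) (Nat.gcd 2 (Nat.sub q 1))) M ||
    (Nat.beq (Nat.div (Nat.mul (Nat.add a 1) (Nat.add q 1)) (Nat.gcd 4 (Nat.sub b 1))) M ||
    Nat.beq (Nat.div (Nat.sub a 1) (Nat.gcd 2 (Nat.sub q 1))) M)))))))))))))

private theorem brq_of_brF {M A n q : ℕ} (hn : 5 ≤ n) (h : brF M n q (q ^ (n - 1)) (q ^ n) = true) :
    brq M A n q = true := by
  simp only [brF, Bool.not_eq_true', Bool.or_eq_false_iff] at h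
  obtain ⟨h1, h2, h3, h4, h5, h6, h7, h8, h9, h10, h11, h12, h13, h14⟩ := h
  have e1 : ¬ n - 1 = n := by omega
  have e2 : ¬ n = 2 * n := by omega
  have e3 : ¬ 2 * (n - 1) = 2 * n := by omega
  have e4 : ¬ 2 * (n - 1) = n - 1 := by omega
  have e5 : ¬ 2 * (n - 1) = n := by omega
  have a1 : ttor (.psl n) q n ≠ M := fun h => Nat.ne_of_beq_eq_false h1 ((if_pos rfl).symm.trans h)
  have a2 : ttor (.psl n) q (n - 1) ≠ M := fun h => Nat.ne_of_beq_eq_false h2 ((if_neg e1).symm.trans h)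
  have a3 : ttor (.psu n) q n ≠ M := fun h => by
    have h' := (if_pos rfl).symm.trans h
    by_cases hp : n % 2 = 0
    · rw [if_pos hp] at h'; exact Nat.ne_of_beq_eq_false h3 h'
    · rw [if_neg hp] at h'; exact Nat.ne_of_beq_eq_false h4 h'
  have a4 : ttor (.psu n) q (n - 1) ≠ M := fun h => by
    have h' := (if_neg e1).symm.trans h
    by_cases hp : n % 2 = 0
    · rw [if_pos hp] at h'; exact Nat.ne_of_beq_eq_false h5 h'
    · rw [if_neg hp] at h'; exact Nat.ne_of_beq_eq_false h6 h'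
  have a5 : ttor (.psp n) q n ≠ M := fun h => Nat.ne_of_beq_eq_false h7 ((if_neg e2).symm.trans h)
  have a6 : ttor (.psp n) q (2 * n) ≠ M := fun h => Nat.ne_of_beq_eq_false h8 ((if_pos rfl).symm.trans h)
  have a7 : ttor (.ominus n) q (2 * n) ≠ M := fun h => Nat.ne_of_beq_eq_false h9 ((if_pos rfl).symm.trans h)
  have a8 : ttor (.ominus n) q (2 * (n - 1)) ≠ M := fun h =>
    Nat.ne_of_beq_eq_false h10 ((if_neg e4).symm.trans ((if_neg e3).symm.trans h))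
  have a9 : ttor (.oplus n) q n ≠ M := fun h => Nat.ne_of_beq_eq_false h11 ((if_pos rfl).symm.trans h)
  have a10 : ttor (.oplus n) q (2 * (n - 1)) ≠ M := fun h => by
    have h' := (if_neg e4).symm.trans ((if_neg e5).symm.trans h)
    by_cases hp : n % 2 = 0
    · rw [if_pos hp] at h'; exact Nat.ne_of_beq_eq_false h12 h'
    · rw [if_neg hp] at h'; exact Nat.ne_of_beq_eq_false h13 h'
  have a11 : ttor (.oplus n) q (n - 1) ≠ M := fun h =>
    Nat.ne_of_beq_eq_false h14 ((if_pos rfl).symm.trans ((if_neg e1).symm.trans h))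
  refine List.all_eq_true.2 fun x hx => Bool.or_eq_true_iff.2 (Or.inl (decide_eq_true ?_))
  rcases List.mem_append.1 hx with hx | hx
  · split_ifs at hx
    · simp only [List.mem_cons, List.not_mem_nil, or_false] at hx
      rcases hx with rfl | rfl | rfl | rfl <;> assumption
    · exact absurd hx List.not_mem_nil
  · simp only [List.mem_cons, List.not_mem_nil, or_false] at hx
    rcases hx with rfl | rfl | rfl | rfl | rfl | rfl | rfl | rfl <;> assumption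

/-- `nloop`, with `B = 8 (q + 1) M` and the power `q ^ (n - 1)` as an argument -/
def nloopF (M A q B : ℕ) (fuel : ℕ) : ℕ → ℕ → Bool :=
  Nat.rec (motive := fun _ => ℕ → ℕ → Bool) (fun _ _ => false)
    (fun _ ih n a => Nat.blt B a || ((brF M n q a (Nat.mul a q) || brq M A n q) && ih (Nat.succ n) (Nat.mul a q))) fuel

private theorem nloop_of {M A q : ℕ} : ∀ {fuel n : ℕ}, 5 ≤ n → nloopF M A q (8 * (q + 1) * M) fuel n (q ^ (n - 1)) = true →
    nloop M A q fuel n = true := by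
  intro fuel
  induction fuel with
  | zero => exact fun _ h => h
  | succ l ih =>
    intro n hn h
    have e : Nat.mul (q ^ (n - 1)) q = q ^ n := by
      conv_rhs => rw [← Nat.sub_add_cancel (show 1 ≤ n by omega)]
      rfl
    change (Nat.blt (8 * (q + 1) * M) (q ^ (n - 1)) || ((brF M n q (q ^ (n - 1)) (Nat.mul (q ^ (n - 1)) q) || brq M A n q) &&
      nloopF M A q (8 * (q + 1) * M) l (n + 1) (Nat.mul (q ^ (n - 1)) q))) = true at h
    rw [e, Bool.or_eq_true, Bool.and_eq_true, Bool.or_eq_true, Nat.blt_eq] at h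
    rw [nloop_succ, Bool.or_eq_true, Bool.and_eq_true, decide_eq_true_eq]
    exact h.imp_right fun h => ⟨h.1.elim (brq_of_brF hn) id, ih (by omega) h.2⟩

/-- `qloop`, with `C = 48 M` -/
def qloopF (M A u C : ℕ) (fuel : ℕ) : ℕ → Bool :=
  Nat.rec (motive := fun _ => ℕ → Bool) (fun _ => false)
    (fun _ ih q => Nat.blt C (Nat.pow q 5) || ((!Nat.beq (Nat.gcd q u) 1 ||
      nloopF M A q (Nat.mul (Nat.mul 8 (Nat.add q 1)) M) 60 5 (Nat.pow q 4)) && ih (Nat.add q 2))) fuel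

private theorem qloop_of {M A u : ℕ} : ∀ {fuel q : ℕ}, qloopF M A u (48 * M) fuel q = true → qloop M A u fuel q = true := by
  intro fuel
  induction fuel with
  | zero => exact fun h => h
  | succ l ih =>
    intro q h
    change (Nat.blt (48 * M) (q ^ 5) || ((!Nat.beq (Nat.gcd q u) 1 || nloopF M A q (8 * (q + 1) * M) 60 5 (q ^ (5 - 1))) &&
      qloopF M A u (48 * M) l (q + 2))) = true at h
    rw [Bool.or_eq_true, Bool.and_eq_true, Bool.or_eq_true, Nat.blt_eq, Bool.not_eq_true'] at h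
    rw [qloop_succ, Bool.or_eq_true, Bool.and_eq_true, decide_eq_true_eq, Bool.or_eq_true, decide_eq_true_eq]
    exact h.imp_right fun h => ⟨h.1.imp Nat.ne_of_beq_eq_false (nloop_of le_rfl), ih h.2⟩

/-- the check for one tuple, in the form for the kernel -/
def brTF (x : ℕ × Bool × ℕ × Bool × ℕ × ℕ) : Bool :=
  qloopF (x.2.2.2.2.2 * ZZ x.2.1 x.2.2.2.1 x.1 x.2.2.2.2.1 / Nat.gcd x.1 (AA x.2.2.2.1 1 x.2.2.2.2.1))
    (AA x.2.2.2.1 x.2.2.1 x.2.2.2.2.1) x.2.2.2.2.1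
    (48 * (x.2.2.2.2.2 * ZZ x.2.1 x.2.2.2.1 x.1 x.2.2.2.2.1 / Nat.gcd x.1 (AA x.2.2.2.1 1 x.2.2.2.2.1))) 3000 3

theorem brT_of {x : ℕ × Bool × ℕ × Bool × ℕ × ℕ} (h : brTF x = true) : brT x = true := qloop_of h

private noncomputable def _root_.Cfsg.Agent.LsF.f98a338_0 : {f // @Cfsg.Agent.R2.Spec.NA5.brF = f} := ⟨_, by first | (delta Cfsg.Agent.R2.Spec.NA5.brF; rewrite [Cfsg.Agent.LsF.or_eq, Cfsg.Agent.LsF.not_eq]; exact rfl) | exact rfl⟩
private noncomputable def _root_.Cfsg.Agent.LsF.f98a338_1 : {f // @Cfsg.Agent.R2.Spec.P1.ttor = f} := ⟨_, by first | (delta Cfsg.Agent.R2.Spec.P1.ttor; rewrite [Cfsg.Agent.LsF.nadd_pat, Cfsg.Agent.LsF.nmul_pat, Cfsg.Agent.LsF.nsub_pat, Cfsg.Agent.LsF.ndiv_pat, Cfsg.Agent.LsF.nmod_pat, Cfsg.Agent.LsF.npow_pat, Cfsg.Agent.LsF.instDecEq_eq, Cfsg.Agent.LsF.ite_eq]; (try delta Cfsg.Agent.R2.Spec.P1.ttor.match_1); (try delta Cfsg.Agent.R2.Spec.P1.top._sparseCasesOn_1); exact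 rfl) | exact rfl⟩
private noncomputable def _root_.Cfsg.Agent.LsF.f98a338_2 : {f // @Cfsg.Agent.R2.Spec.NA5.valsP = f} := ⟨_, by first | (delta Cfsg.Agent.R2.Spec.NA5.valsP; rewrite [Cfsg.Agent.LsF.f98a338_1.2, Cfsg.Agent.LsF.nmul_pat, Cfsg.Agent.LsF.nsub_pat, Cfsg.Agent.LsF.lappend_pat, Cfsg.Agent.LsF.decLe_eq, Cfsg.Agent.LsF.ite_eq]; exact rfl) | exact rfl⟩
private noncomputable def _root_.Cfsg.Agent.LsF.f98a338_3 : {f // @Cfsg.Agent.R2.Spec.NA5.brq = f} := ⟨_, by first | (delta Cfsg.Agent.R2.Spec.NA5.brq; rewrite [Cfsg.Agent.LsF.f98a338_2.2, Cfsg.Agent.LsF.nmod_pat, Cfsg.Agent.LsF.or_eq, Cfsg.Agent.LsF.instDecEq_eq, Cfsg.Agent.LsF.all_eq, Cfsg.Agent.LsF.dNot_eq, Cfsg.Agent.LsF.decide_eq]; exact rfl) | exact rfl⟩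
private noncomputable def _root_.Cfsg.Agent.LsF.f98a338_4 : {f // @Cfsg.Agent.R2.Spec.NA5.nloopF = f} := ⟨_, by first | (delta Cfsg.Agent.R2.Spec.NA5.nloopF; rewrite [Cfsg.Agent.LsF.f98a338_0.2, Cfsg.Agent.LsF.f98a338_3.2, Cfsg.Agent.LsF.and_eq, Cfsg.Agent.LsF.or_eq]; exact rfl) | exact rfl⟩
private noncomputable def _root_.Cfsg.Agent.LsF.f98a338_5 : {f // @Cfsg.Agent.R2.Spec.NA5.qloopF = f} := ⟨_, by first | (delta Cfsg.Agent.R2.Spec.NA5.qloopF; rewrite [Cfsg.Agent.LsF.f98a338_4.2, Cfsg.Agent.LsF.and_eq, Cfsg.Agent.LsF.or_eq, Cfsg.Agent.LsF.not_eq]; exact rfl) | exact rfl⟩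
private noncomputable def _root_.Cfsg.Agent.LsF.f98a338_6 : {f // @Cfsg.Agent.H403.NumTop.AA = f} := ⟨_, by first | (delta Cfsg.Agent.H403.NumTop.AA; rewrite [Cfsg.Agent.LsF.nadd_pat, Cfsg.Agent.LsF.nsub_pat, Cfsg.Agent.LsF.nmod_pat, Cfsg.Agent.LsF.npow_pat, Cfsg.Agent.LsF.nbeq_pat, Cfsg.Agent.LsF.or_eq, Cfsg.Agent.LsF.dBoolEq_eq, Cfsg.Agent.LsF.ite_eq]; exact rfl) | exact rfl⟩
private noncomputable def _root_.Cfsg.Agent.LsF.f98a338_7 : {f // @Cfsg.Agent.R2.Spec.NA.YY = f} := ⟨_, by first | (delta Cfsg.Agent.R2.Spec.NA.YY; rewrite [Cfsg.Agent.LsF.f98a338_6.2, Cfsg.Agent.LsF.ndiv_pat]; exact rfl) | exact rfl⟩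
private noncomputable def _root_.Cfsg.Agent.LsF.f98a338_8 : {f // @Cfsg.Agent.R2.Spec.NA.ZZ = f} := ⟨_, by first | (delta Cfsg.Agent.R2.Spec.NA.ZZ; rewrite [Cfsg.Agent.LsF.f98a338_7.2, Cfsg.Agent.LsF.f98a338_6.2, Cfsg.Agent.LsF.nsub_pat, Cfsg.Agent.LsF.dBoolEq_eq, Cfsg.Agent.LsF.ite_eq]; exact rfl) | exact rfl⟩
private noncomputable def _root_.Cfsg.Agent.LsF.f98a338_9 : {f // @Cfsg.Agent.R2.Spec.NA5.brTF = f} := ⟨_, by first | (delta Cfsg.Agent.R2.Spec.NA5.brTF; rewrite [Cfsg.Agent.LsF.f98a338_5.2, Cfsg.Agent.LsF.f98a338_8.2, Cfsg.Agent.LsF.f98a338_6.2, Cfsg.Agent.LsF.nmul_pat, Cfsg.Agent.LsF.ndiv_pat]; exact rfl) | exact rfl⟩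
set_option maxRecDepth 100000 in
theorem brT_all : (bad5.all brT) = true :=
  List.all_eq_true.2 fun x hx => brT_of (List.all_eq_true.1 (show bad5.all brTF = true by ((try (rewrite [Cfsg.Agent.LsF.f98a338_9.2, Cfsg.Agent.LsF.all_eq])); decide +kernel)) x hx)

theorem mem_valsP {t : Fam} {q i j : ℕ} (hD : 5 ≤ dimL t) (h : PairOK t i j) :
    ∃ n, 5 ≤ n ∧ n - 1 ≤ dimL t ∧ (ttor t q i, ttor t q j) ∈ valsP n q := by
  cases t with
  | psl n =>
    change 5 ≤ n - 1 at hD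
    refine ⟨n, by omega, le_refl (n - 1), ?_⟩
    rw [valsP, if_pos (show 6 ≤ n by omega)]
    refine List.mem_append_left _ ?_
    rcases h with ⟨rfl, h⟩ | ⟨h, rfl⟩
    · obtain rfl : j = i - 1 := by omega
      simp
    · obtain rfl : i = j - 1 := by omega
      simp
  | psu n =>
    change 5 ≤ n - 1 at hD
    refine ⟨n, by omega, le_refl (n - 1), ?_⟩
    rw [valsP, if_pos (show 6 ≤ n by omega)]
    refine List.mem_append_left _ ?_
    rcases h with ⟨rfl, h⟩ | ⟨h, rfl⟩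
    · obtain rfl : j = i - 1 := by omega
      simp
    · obtain rfl : i = j - 1 := by omega
      simp
  | psp n =>
    change 5 ≤ n at hD
    refine ⟨n, hD, by change n - 1 ≤ n; omega, ?_⟩
    refine List.mem_append_right _ ?_
    rcases h with ⟨-, ⟨rfl, rfl⟩ | ⟨rfl, rfl⟩⟩ <;> simp
  | oodd n =>
    change 5 ≤ n at hD
    refine ⟨n, hD, by change n - 1 ≤ n; omega, ?_⟩
    rw [ttor_oodd, ttor_oodd]
    refine List.mem_append_right _ ?_
    rcases h with ⟨-, ⟨rfl, rfl⟩ | ⟨rfl, rfl⟩⟩ <;> simp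
  | oplus n =>
    have hn : 5 ≤ n := by
      change 5 ≤ (if n % 2 = 0 then n - 1 else n) at hD
      split_ifs at hD <;> omega
    refine ⟨n, hn, ?_, ?_⟩
    · change n - 1 ≤ (if n % 2 = 0 then n - 1 else n)
      split_ifs <;> omega
    · refine List.mem_append_right _ ?_
      rcases h with ⟨-, ⟨rfl, rfl⟩ | ⟨rfl, rfl⟩⟩ | ⟨-, ⟨rfl, rfl⟩ | ⟨rfl, rfl⟩⟩ <;> simp
  | ominus n =>
    change 5 ≤ n at hD
    refine ⟨n, hD, by change n - 1 ≤ n; omega, ?_⟩
    refine List.mem_append_right _ ?_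
    rcases h with ⟨rfl, rfl⟩ | ⟨rfl, rfl⟩ <;> simp
  | _ => exact h.elim

variable {s e : Bool} {m k u q p H M N d : ℕ} {a b c : ℤ}

/-- a tuple with `brT` is impossible -/
theorem NE.not_brT (h : NE s e m k u q p H M N d a b c) (hd : d = Nat.gcd m (AA e 1 u)) (hs : q ^ 5 ≤ 48 * M)
    {f : ℕ} (hqp : q = p ^ f) {t : Fam} {i j : ℕ} (hq2 : q % 2 = 1) (hr : 4 ≤ rk t) (hD : 5 ≤ dimL t)
    (hP : PairOK t i j) (hM : M = ttor t q i) (hN : N = ttor t q j) (hlow : q ^ dimL t ≤ 8 * dgL t q * M)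
    (h1 : brT (m, s, k, e, u, H) = true) : False := by
  have hq := h.q3
  have heq := h.eqM
  have hd0 := h.d_pos
  have hMe : M = H * ZZ s e m u / d := by rw [← heq]; exact (Nat.mul_div_cancel_left _ hd0).symm
  have h1' : qloop M (AA e k u) u 3000 3 = true := by
    rw [hMe, hd]; exact h1
  have hgu : Nat.gcd q u = 1 := by
    rw [hqp]
    exact Nat.Coprime.pow_left _ ((Nat.Prime.coprime_iff_not_dvd h.p_prime).2 h.pu)
  have h2 := qloop_spec h1' ((q - 3) / 2) (by rwa [show 3 + 2 * ((q - 3) / 2) = q by omega])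
    (by rwa [show 3 + 2 * ((q - 3) / 2) = q by omega])
  rw [show 3 + 2 * ((q - 3) / 2) = q by omega] at h2
  obtain ⟨n, hn5, hnD, hmem⟩ := mem_valsP (q := q) hD hP
  have hdg : dgL t q ≤ q + 1 := by
    cases t with
    | psl n => exact (Nat.gcd_le_right _ (by omega)).trans (by omega)
    | psu n => exact Nat.gcd_le_right _ (by omega)
    | _ => exact Nat.le_add_left _ _
  have h3 : q ^ (n - 1) ≤ 8 * (q + 1) * M := by
    calc q ^ (n - 1) ≤ q ^ dimL t := Nat.pow_le_pow_right (by omega) hnD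
      _ ≤ 8 * dgL t q * M := hlow
      _ ≤ 8 * (q + 1) * M := Nat.mul_le_mul_right _ (Nat.mul_le_mul_left _ hdg)
  have h4 := nloop_spec (by omega) h2 n hn5 h3
  rw [← hM, ← hN] at hmem
  have h5 := List.all_eq_true.1 h4 _ hmem
  simp only [Bool.or_eq_true, decide_eq_true_eq] at h5
  rcases h5 with h5 | h5
  · exact h5 rfl
  · exact h5 (Nat.mod_eq_zero_of_dvd h.n1)

/-- the leftover is impossible -/
theorem NE.not_bad5 (h : NE s e m k u q p H M N d a b c) (hd : d = Nat.gcd m (AA e 1 u)) (hs : q ^ 5 ≤ 48 * M)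
    {f : ℕ} (hqp : q = p ^ f) {t : Fam} {i j : ℕ} (hq2 : q % 2 = 1) (hr : 4 ≤ rk t) (hD : 5 ≤ dimL t)
    (hP : PairOK t i j) (hM : M = ttor t q i) (hN : N = ttor t q j) (hlow : q ^ dimL t ≤ 8 * dgL t q * M)
    (hb : (m, s, k, e, u, H) ∈ bad5) : False :=
  h.not_brT hd hs hqp hq2 hr hD hP hM hN hlow (List.all_eq_true.1 brT_all _ hb)

end Cfsg.Agent.R2.Spec.NA5

private theorem dce_8c2ef4a107ce : _root_.True := by
  try have : _root_.True := by simp only [_root_.Cfsg.Agent.R2.Spec.NA5.valsP.eq_1]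
  try have : _root_.True := by simp only [_root_.Cfsg.Agent.R2.Spec.NA5.nloop.eq_1]
  try have : _root_.True := by simp only [_root_.Cfsg.Agent.R2.Spec.NA5.qloop.eq_1]
  exact _root_.True.intro
end

-- part: R2/Spec/X3/PE/H18/TD4
section
prune_inst 0x2040400c8000000000000200000004200001000020000110400102000653420800200044201802104c120010000000001000d000000000000030000002002080280000c0800004440001803002000000000000000000000000000000041004000000000
set_option linter.all false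
open scoped Cfsg.Agent.FastGrp

-- part: R2/Spec/X3/PE/H18/TD4Num
section
/-!
# Box X3 of S3435, packet P-E: row `³D₄(u)`, the numerical part (helper18)
-/

set_option autoImplicit false
set_option linter.unusedVariables false

namespace Cfsg.Agent.R2.Spec.X3.H18

open Cfsg.Agent.H951.UF (fb_le f_pos)

/-! ### type I -/

section one

variable {p x u a : ℤ} (hu : 3 ≤ u) (hx : 5 ≤ x) (ha : 1 ≤ a) (hodd : a % 2 = 1)
  (hT : 2 * (u ^ 4 - u ^ 2 + 1) = a * (x ^ 2 + 1))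

include hu hx ha hT

omit hu hx in
theorem d1_le : x ^ 2 + 1 ≤ 2 * (u ^ 4 - u ^ 2 + 1) := by
  rw [hT]
  nlinarith only [ha, sq_nonneg x]

theorem d1_lt : 2 * x < 3 * u ^ 2 := by
  have h1 := d1_le ha hT
  by_contra h
  push Not at h
  have h3 : 0 ≤ 3 * u ^ 2 := by positivity
  have h4 : (3 * u ^ 2) * (3 * u ^ 2) ≤ (2 * x) * (2 * x) := mul_self_le_mul_self h3 h
  nlinarith only [hu, h1, h4]

include hodd

/-- not a divisor of `x² - 1` -/
theorem d1_not_C {ε : ℤ} (hε : ε = 1 ∨ ε = -1) (hd : (u ^ 2 - 1) * (u ^ 2 + ε * u + 1) ∣ x ^ 2 - 1) : False := by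
  have hpos : 0 < x ^ 2 - 1 := by nlinarith only [hx]
  rcases (by omega : a = 1 ∨ 3 ≤ a) with ha1 | ha3
  · subst ha1
    have e : x ^ 2 - 1 = (u ^ 2 - 1) * (2 * u ^ 2) := by linear_combination -hT
    rw [e] at hd
    have hne : u ^ 2 - 1 ≠ 0 := by nlinarith only [hpos, hT]
    have h1 := (mul_dvd_mul_iff_left hne).1 hd
    have hcop : IsCoprime (u ^ 2 + ε * u + 1) (u ^ 2) := by
      apply IsCoprime.pow_right
      exact ⟨1, -(u + ε), by ring⟩
    have h2 := hcop.dvd_of_dvd_mul_right h1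
    have h3 := Int.le_of_dvd (by norm_num) h2
    rcases hε with rfl | rfl <;> nlinarith only [hu, h3, _root_.sq_nonneg (u : ℤ)]
  · have h1 := Int.le_of_dvd hpos hd
    have h2 := fb_le hu hε
    have h3 : 3 * (x ^ 2 + 1) ≤ 2 * (u ^ 4 - u ^ 2 + 1) := by
      rw [hT]
      nlinarith only [ha3, sq_nonneg x]
    have h4 : 0 < u ^ 4 - 3 * u ^ 3 + 2 * u ^ 2 + 3 * u + 1 := by
      have : u ^ 4 - 3 * u ^ 3 + 2 * u ^ 2 + 3 * u + 1 = u ^ 3 * (u - 3) + 2 * u ^ 2 + 3 * u + 1 := by ring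
      rw [this]
      have : 0 ≤ u ^ 3 * (u - 3) := mul_nonneg (by positivity) (by linarith)
      (clear * - hu; positivity)
    linarith only [h1, h2, h3, h4]

/-- not a divisor of `p (x - 1)` -/
theorem d1_not_E (hp0 : 0 < p) (hpx : p = x ∨ 5 * p ≤ x) {ε : ℤ} (hε : ε = 1 ∨ ε = -1)
    (hd : (u ^ 2 - 1) * (u ^ 2 + ε * u + 1) ∣ p * (x - 1)) : False := by
  have h2x := d1_lt hu hx ha hT
  have hsq := d1_le ha hT
  have hfb := fb_le hu hε
  have hfp := f_pos hu hε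
  have u3 : 27 ≤ u ^ 3 := by nlinarith only [hu, mul_self_nonneg (u - 3)]
  have u43 : 3 * u ^ 3 ≤ u ^ 4 := by
    have : u ^ 4 = u * u ^ 3 := by ring
    rw [this]
    exact mul_le_mul_of_nonneg_right hu (by positivity)
  have u32 : 3 * u ^ 2 ≤ u ^ 3 := by
    have : u ^ 3 = u * u ^ 2 := by ring
    rw [this]
    exact mul_le_mul_of_nonneg_right hu (by positivity)
  have u2 : 3 * u ≤ u ^ 2 := by nlinarith only [u43]
  have hle := Int.le_of_dvd (mul_pos hp0 (by linarith)) hd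
  rcases hpx with hpx | hpx
  swap
  · have h1 : 5 * (p * (x - 1)) ≤ x * (x - 1) := by
      have := mul_le_mul_of_nonneg_right hpx (by linarith : (0 : ℤ) ≤ x - 1)
      linarith only [this]
    have h3 : x * (x - 1) = x ^ 2 - x := by ring
    linarith only [hu, hx, hsq, hfb, u3, u43, u2, hle, h1]
  · subst hpx
    have e : p * (p - 1) = p ^ 2 - p := by ring
    rw [e] at hd hle
    rcases (by omega : a = 1 ∨ 3 ≤ a) with ha1 | ha3
    · subst ha1
      have hq2 : p ^ 2 = 2 * u ^ 4 - 2 * u ^ 2 + 1 := by linarith only [hT]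
      obtain ⟨j, hj⟩ := hd
      have hj0 : 0 < j := by
        by_contra h
        push Not at h
        have : (u ^ 2 - 1) * (u ^ 2 + ε * u + 1) * j ≤ 0 := mul_nonpos_of_nonneg_of_nonpos hfp.le h
        linarith only [u3, u43, u32, h2x, hT, hj, this]
      rcases hε with rfl | rfl
      · have e2 : (u ^ 2 - 1) * (u ^ 2 + 1 * u + 1) = u ^ 4 + u ^ 3 - u - 1 := by ring
        rw [e2] at hj hfp
        rcases (by omega : j = 1 ∨ 2 ≤ j) with h1 | h1
        · subst h1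
          linarith only [hu, u3, u43, u32, h2x, hT, hj]
        · have h3 : (u ^ 4 + u ^ 3 - u - 1) * 2 ≤ (u ^ 4 + u ^ 3 - u - 1) * j := mul_le_mul_of_nonneg_left h1 hfp.le
          linarith only [hu, u3, u2, hx, hsq, hj, h3]
      · have e2 : (u ^ 2 - 1) * (u ^ 2 + -1 * u + 1) = u ^ 4 - u ^ 3 + u - 1 := by ring
        rw [e2] at hj hfp
        rcases (by omega : j = 1 ∨ j = 2 ∨ 3 ≤ j) with h1 | h1 | h1
        · subst h1
          linarith only [u3, u43, u32, u2, h2x, hT, hj]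
        · subst h1
          linarith only [u3, u32, u2, h2x, hT, hj]
        · have h3 : (u ^ 4 - u ^ 3 + u - 1) * 3 ≤ (u ^ 4 - u ^ 3 + u - 1) * j := mul_le_mul_of_nonneg_left h1 hfp.le
          linarith only [hu, u43, u2, hx, hsq, hj, h3]
    · have h3 : 3 * (p ^ 2 + 1) ≤ 2 * (u ^ 4 - u ^ 2 + 1) := by
        rw [hT]
        nlinarith only [ha3, sq_nonneg p]
      linarith only [hu, hfb, u43, u2, hx, hle, h3]

end one

/-- both divide -/
theorem both_dvd {c X u : ℤ} (hc : c ≠ 0) (hu : u ^ 2 - 1 ≠ 0) (h1 : c * ((u ^ 2 - 1) * (u ^ 2 + 1 * u + 1)) ∣ X)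
    (h3 : c * ((u ^ 2 - 1) * (u ^ 2 + (-1) * u + 1)) ∣ X) : c * (u ^ 6 - 1) ∣ X := by
  obtain ⟨y, hy⟩ : c * (u ^ 2 - 1) ∣ X := (Dvd.intro (u ^ 2 + 1 * u + 1) (by ring)).trans h1
  have hne : c * (u ^ 2 - 1) ≠ 0 := mul_ne_zero hc hu
  rw [hy] at h1 h3 ⊢
  have e1 : c * ((u ^ 2 - 1) * (u ^ 2 + 1 * u + 1)) = c * (u ^ 2 - 1) * (u ^ 2 + u + 1) := by ring
  have e3 : c * ((u ^ 2 - 1) * (u ^ 2 + (-1) * u + 1)) = c * (u ^ 2 - 1) * (u ^ 2 - u + 1) := by ring
  have e6 : c * (u ^ 6 - 1) = c * (u ^ 2 - 1) * ((u ^ 2 + u + 1) * (u ^ 2 - u + 1)) := by ring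
  rw [e1] at h1
  rw [e3] at h3
  rw [e6]
  have h4 := (mul_dvd_mul_iff_left hne).1 h1
  have h5 := (mul_dvd_mul_iff_left hne).1 h3
  have hcop : IsCoprime (u ^ 2 + u + 1) (u ^ 2 - u + 1) := by
    have hc1 : IsCoprime (u ^ 2 + u + 1) (2 * u) := by
      apply IsCoprime.mul_right
      · obtain ⟨k, hk⟩ := Int.even_mul_succ_self u
        exact ⟨1, -k, by linear_combination hk⟩
      · exact ⟨1, -(u + 1), by ring⟩
    obtain ⟨s, t, hst⟩ := hc1
    exact ⟨s + t, -t, by linear_combination hst⟩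
  exact (mul_dvd_mul_iff_left hne).2 (hcop.mul_dvd h4 h5)

/-- **type I** -/
theorem d4_numI {p x u a : ℤ} (hu : 3 ≤ u) (hx : 5 ≤ x) (ha : 1 ≤ a) (hodd : a % 2 = 1)
    (hT : 2 * (u ^ 4 - u ^ 2 + 1) = a * (x ^ 2 + 1)) (hp0 : 0 < p) (hpx : p = x ∨ 5 * p ≤ x) (hpd : p ∣ x)
    (hF : ∀ ε : ℤ, ε = 1 ∨ ε = -1 → 4 * ((u ^ 2 - 1) * (u ^ 2 + ε * u + 1)) ∣ x ^ 3 - 1 ∨
      (u ^ 2 - 1) * (u ^ 2 + ε * u + 1) ∣ x ^ 2 - 1 ∨ 4 * ((u ^ 2 - 1) * (u ^ 2 + ε * u + 1)) ∣ p * (x ^ 2 - 1) ∨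
      (u ^ 2 - 1) * (u ^ 2 + ε * u + 1) ∣ p * (x - 1)) : False := by
  have hpx' : p ≤ x := by rcases hpx with h | h <;> linarith
  have hsq := d1_le ha hT
  have h2x := d1_lt hu hx ha hT
  have hx25 : 25 ≤ x ^ 2 := by nlinarith only [hx]
  have hA0 : 0 < x ^ 3 - 1 := by nlinarith only [hx, hx25]
  have hD0 : 0 < p * (x ^ 2 - 1) := mul_pos hp0 (by linarith only [hx25])
  have hDq : p * (x ^ 2 - 1) ≤ x ^ 3 - 1 := by
    have h1 : p * (x ^ 2 - 1) ≤ x * (x ^ 2 - 1) := mul_le_mul_of_nonneg_right hpx' (by linarith only [hx25])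
    have h2 : x * (x ^ 2 - 1) = x ^ 3 - x := by ring
    linarith
  have hu1 : u ^ 2 - 1 ≠ 0 := by linarith only [hx, h2x]
  have key : ∀ {ε : ℤ} {X : ℤ}, 4 * ((u ^ 2 - 1) * (u ^ 2 + ε * u + 1)) ∣ X → 4 * (u ^ 2 - 1) ∣ X :=
    fun {ε X} h => (Dvd.intro (u ^ 2 + ε * u + 1) (by ring)).trans h
  have both : ∀ X : ℤ, 0 < X → X ≤ x ^ 3 - 1 → 4 * ((u ^ 2 - 1) * (u ^ 2 + 1 * u + 1)) ∣ X →
      4 * ((u ^ 2 - 1) * (u ^ 2 + (-1) * u + 1)) ∣ X → False := by
    intro X hX hXq h1 h3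
    have h4 := Int.le_of_dvd hX (both_dvd (by norm_num) hu1 h1 h3)
    have h9 : x ^ 2 ≤ 2 * u ^ 4 := by linarith only [hx, hsq, h2x]
    have h10 : x ^ 3 * 2 ≤ 6 * u ^ 6 := by
      calc x ^ 3 * 2 = x ^ 2 * (2 * x) := by ring
        _ ≤ (2 * u ^ 4) * (3 * u ^ 2) := mul_le_mul h9 h2x.le (by linarith) (by positivity)
        _ = 6 * u ^ 6 := by ring
    have h11 : 27 * 27 ≤ u ^ 6 := by
      have h12 : 27 ≤ u ^ 3 := by nlinarith only [hu, mul_self_nonneg (u - 3)]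
      calc (27 : ℤ) * 27 ≤ u ^ 3 * u ^ 3 := mul_self_le_mul_self (by norm_num) h12
        _ = u ^ 6 := by ring
    linarith
  have mixed : 4 * (u ^ 2 - 1) ∣ x ^ 3 - 1 → 4 * (u ^ 2 - 1) ∣ p * (x ^ 2 - 1) → False := by
    intro h1 h3
    have hcop : IsCoprime (4 * (u ^ 2 - 1)) p := by
      have h4 : IsCoprime (x ^ 3 - 1) x := ⟨-1, x ^ 2, by ring⟩
      exact (h4.of_isCoprime_of_dvd_left h1).of_isCoprime_of_dvd_right hpd
    have h5 := hcop.dvd_of_dvd_mul_left h3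
    have h6 : 4 * (u ^ 2 - 1) ∣ x - 1 := by
      have : x - 1 = (x ^ 3 - 1) - x * (x ^ 2 - 1) := by ring
      rw [this]
      exact dvd_sub h1 (h5.mul_left x)
    have h7 := Int.le_of_dvd (by linarith) h6
    linarith only [hx, h2x, h7]
  rcases hF 1 (Or.inl rfl) with h1 | h1 | h1 | h1
  · rcases hF (-1) (Or.inr rfl) with h2 | h2 | h2 | h2
    · exact both _ hA0 le_rfl h1 h2
    · exact d1_not_C hu hx ha hodd hT (Or.inr rfl) h2
    · exact mixed (key h1) (key h2)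
    · exact d1_not_E hu hx ha hodd hT hp0 hpx (Or.inr rfl) h2
  · exact d1_not_C hu hx ha hodd hT (Or.inl rfl) h1
  · rcases hF (-1) (Or.inr rfl) with h2 | h2 | h2 | h2
    · exact mixed (key h2) (key h1)
    · exact d1_not_C hu hx ha hodd hT (Or.inr rfl) h2
    · exact both _ hD0 hDq h1 h2
    · exact d1_not_E hu hx ha hodd hT hp0 hpx (Or.inr rfl) h2
  · exact d1_not_E hu hx ha hodd hT hp0 hpx (Or.inl rfl) h1

/-! ### type II -/

/-- data, type II -/
structure TwoD (p x u : ℤ) : Prop where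
  hu : 3 ≤ u
  hx : 7 ≤ x ∨ x ≤ -13
  x4 : x % 4 = 3
  hp0 : 0 < p
  pd : p ∣ x
  pc : p = |x| ∨ 5 * p ≤ |x|

theorem le_abs_of_dvd {N X : ℤ} (h : N ∣ X) (hX : X ≠ 0) : N ≤ |X| := Int.le_of_dvd (abs_pos.2 hX) ((dvd_abs _ _).2 h)

section two

variable {p x u δ : ℤ} (D : TwoD p x u)

include D

theorem TwoD.y : 7 ≤ |x| ∧ |x| * |x| = x ^ 2 ∧ p ≤ |x| ∧ 13 * |x - 1| ≤ 14 * |x| ∧ |x + 1| ≤ |x| + 1 ∧
    12 * x ^ 2 ≤ 13 * (x ^ 2 + x + 1) ∧ |x - 1| ≤ |x| + 1 := by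
  have hx := D.hx
  refine ⟨?_, by rw [← sq, sq_abs], ?_, ?_, ?_, ?_, ?_⟩
  · rw [le_abs]; omega
  · have := abs_nonneg x
    rcases D.pc with h | h
    · exact h.le
    · have := D.hp0; linarith
  · rcases hx with h | h
    · rw [abs_of_nonneg (by omega : 0 ≤ x), abs_of_nonneg (by omega : 0 ≤ x - 1)]; omega
    · rw [abs_of_nonpos (by omega : x ≤ 0), abs_of_nonpos (by omega : x - 1 ≤ 0)]; omega
  · rcases hx with h | h
    · rw [abs_of_nonneg (by omega : 0 ≤ x), abs_of_nonneg (by omega : 0 ≤ x + 1)]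
    · rw [abs_of_nonpos (by omega : x ≤ 0), abs_of_nonpos (by omega : x + 1 ≤ 0)]; omega
  · rcases hx with h | h <;> nlinarith
  · rcases hx with h | h
    · rw [abs_of_nonneg (by omega : 0 ≤ x), abs_of_nonneg (by omega : 0 ≤ x - 1)]; omega
    · rw [abs_of_nonpos (by omega : x ≤ 0), abs_of_nonpos (by omega : x - 1 ≤ 0)]; omega

theorem TwoD.ne : x ^ 2 - 1 ≠ 0 ∧ p * (x - 1) ≠ 0 ∧ p * (x ^ 2 - 1) ≠ 0 ∧ (x ^ 2 + 1) * (x + 1) ≠ 0 ∧ x - 1 ≠ 0 := by
  have hx := D.hx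
  have hp := D.hp0
  have h1 : x ^ 2 - 1 ≠ 0 := by rcases hx with h | h <;> nlinarith only [h]
  have h2 : x - 1 ≠ 0 := by omega
  exact ⟨h1, mul_ne_zero hp.ne' h2, mul_ne_zero hp.ne' h1, mul_ne_zero (by positivity) (by omega), h2⟩

/-- `N ∣ p (x - 1)` gives `13 N ≤ 14 x²` -/
theorem TwoD.E_le {N : ℤ} (h : N ∣ p * (x - 1)) : 13 * N ≤ 14 * x ^ 2 := by
  obtain ⟨h7, hy2, hpy, h14, -, -, -⟩ := D.y
  have h1 := le_abs_of_dvd h D.ne.2.1
  rw [abs_mul, abs_of_pos D.hp0] at h1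
  have h2 : p * |x - 1| ≤ |x| * |x - 1| := mul_le_mul_of_nonneg_right hpy (abs_nonneg _)
  have h3 : |x| * (13 * |x - 1|) ≤ |x| * (14 * |x|) := mul_le_mul_of_nonneg_left h14 (abs_nonneg _)
  linarith only [hy2, h1, h2, h3]

/-- `2 N ∣ δ (x - 1)` gives `26 N ≤ 6 x²` -/
theorem TwoD.F_le {N : ℤ} (hδ : δ = 1 ∨ δ = 3) (h : 2 * N ∣ δ * (x - 1)) : 26 * N ≤ 6 * x ^ 2 := by
  obtain ⟨h7, hy2, hpy, h14, -, -, -⟩ := D.y
  have hδ0 : 0 < δ := by rcases hδ with h | h <;> omega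
  have hδ3 : δ ≤ 3 := by rcases hδ with h | h <;> omega
  have h1 := le_abs_of_dvd h (mul_ne_zero hδ0.ne' D.ne.2.2.2.2)
  rw [abs_mul, abs_of_pos hδ0] at h1
  have h2 : δ * |x - 1| ≤ 3 * |x - 1| := mul_le_mul_of_nonneg_right hδ3 (abs_nonneg _)
  have h3 : 7 * |x| ≤ |x| * |x| := mul_le_mul_of_nonneg_right h7 (abs_nonneg _)
  linarith only [hy2, h14, h1, h2, h3]

theorem TwoD.B_le {N : ℤ} (h : N ∣ (x ^ 2 + 1) * (x + 1)) : 5 * N ≤ 6 * |x| ^ 3 := by
  obtain ⟨h7, hy2, hpy, h14, h15, -, -⟩ := D.y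
  have h1 := le_abs_of_dvd h D.ne.2.2.2.1
  rw [abs_mul, abs_of_pos (by positivity : (0 : ℤ) < x ^ 2 + 1), ← hy2] at h1
  generalize |x| = y at *
  have h2 : (y * y + 1) * |x + 1| ≤ (y * y + 1) * (y + 1) := mul_le_mul_of_nonneg_left h15 (by positivity)
  have h3 : 0 ≤ y ^ 3 - 5 * (y ^ 2 + y + 1) := by
    obtain ⟨t, ht, rfl⟩ : ∃ t : ℤ, 0 ≤ t ∧ y = t + 7 := ⟨y - 7, by omega, by ring⟩
    clear * - ht
    ring_nf
    positivity
  linarith only [h1, h2, h3]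

theorem TwoD.D_le {N : ℤ} (h : N ∣ p * (x ^ 2 - 1)) : N ≤ |x| ^ 3 ∧ (5 * p ≤ |x| → 5 * N ≤ |x| ^ 3) := by
  obtain ⟨h7, hy2, hpy, h14, h15, -, -⟩ := D.y
  have hx1 : 0 < x ^ 2 - 1 := by rcases D.hx with h | h <;> nlinarith only [h7, hy2]
  have h1 := Int.le_of_dvd (mul_pos D.hp0 hx1) h
  rw [← hy2] at h1 hx1
  generalize |x| = y at *
  constructor
  · have h2 : p * (y * y - 1) ≤ y * (y * y - 1) := mul_le_mul_of_nonneg_right hpy (by linarith)
    linarith only [h7, h1, h2]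
  · intro h5
    have h2 : 5 * p * (y * y - 1) ≤ y * (y * y - 1) := mul_le_mul_of_nonneg_right h5 (by linarith)
    linarith only [h7, h1, h2]

/-- the mixed case: `u² - 1 ∣ x + 1` -/
theorem TwoD.mixed (h1 : 2 * (u ^ 2 - 1) ∣ (x ^ 2 + 1) * (x + 1)) (h2 : 2 * (u ^ 2 - 1) ∣ p * (x ^ 2 - 1)) :
    u ^ 2 - 1 ∣ x + 1 := by
  have hcop : IsCoprime (2 * (u ^ 2 - 1)) p := by
    have h4 : IsCoprime ((x ^ 2 + 1) * (x + 1)) x := ⟨1, -(x ^ 2 + x + 1), by ring⟩
    exact (h4.of_isCoprime_of_dvd_left h1).of_isCoprime_of_dvd_right D.pd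
  have h5 := hcop.dvd_of_dvd_mul_left h2
  have h6 : 2 * (u ^ 2 - 1) ∣ 2 * (x + 1) := by
    have : 2 * (x + 1) = (x ^ 2 + 1) * (x + 1) - (x + 1) * (x ^ 2 - 1) := by ring
    rw [this]
    exact dvd_sub h1 (h5.mul_left _)
  exact (mul_dvd_mul_iff_left (by norm_num)).1 h6

/-- the conditions -/
def CondII (p x u δ ε : ℤ) : Prop :=
  2 * ((u ^ 2 - 1) * (u ^ 2 + ε * u + 1)) ∣ (x ^ 2 + 1) * (x + 1) ∨
  (u ^ 2 - 1) * (u ^ 2 + ε * u + 1) ∣ x ^ 2 - 1 ∨ 2 * ((u ^ 2 - 1) * (u ^ 2 + ε * u + 1)) ∣ p * (x ^ 2 - 1) ∨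
  (u ^ 2 - 1) * (u ^ 2 + ε * u + 1) ∣ p * (x - 1) ∨ 2 * ((u ^ 2 - 1) * (u ^ 2 + ε * u + 1)) ∣ δ * (x - 1)

/-- `5 (x² + x + 1) ≤ 3 T` -/
theorem killS (hδ : δ = 1 ∨ δ = 3) (hS : 5 * (x ^ 2 + x + 1) ≤ 3 * (u ^ 4 - u ^ 2 + 1))
    (hF : ∀ ε : ℤ, ε = 1 ∨ ε = -1 → CondII p x u δ ε) : False := by
  obtain ⟨h7, hy2, hpy, h14, h15, h12, -⟩ := D.y
  have hu := D.hu
  have h20 : 20 * x ^ 2 ≤ 13 * (u ^ 4 - u ^ 2 + 1) := by linarith
  obtain ⟨t, ht, htu⟩ : ∃ t : ℤ, 0 ≤ t ∧ u = t + 3 := ⟨u - 3, by omega, by ring⟩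
  have i1 : 0 < 7 * u ^ 4 - 20 * u ^ 3 + 13 * u ^ 2 + 20 * u - 13 := by
    rw [htu]; clear * - ht; ring_nf; positivity
  have i2 : 0 < 3 * u ^ 4 - 10 * u ^ 3 + 7 * u ^ 2 + 10 * u - 17 := by
    rw [htu]; clear * - ht; ring_nf; positivity
  have i3 : 0 < 520 * (u ^ 4 - u ^ 3 + u - 1) - 78 * (u ^ 4 - u ^ 2 + 1) := by
    rw [htu]; clear * - ht; ring_nf; positivity
  have i4 : 0 < 7 * u ^ 4 - 67 * u ^ 2 + 67 := by
    rw [htu]; clear * - ht; ring_nf; positivity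
  have i5 : 9 ≤ u ^ 2 := by nlinarith only [hS, h7, hy2, h12]
  have i6 : 729 ≤ u ^ 6 := by
    calc (729 : ℤ) = 3 ^ 6 := by norm_num
      _ ≤ u ^ 6 := pow_le_pow_left₀ (by norm_num) hu 6
  have hTu : u ^ 4 - u ^ 2 + 1 ≤ u ^ 4 := by linarith
  have hy : 10 * |x| ≤ 9 * u ^ 2 := by
    by_contra h
    push Not at h
    have h3 : (9 * u ^ 2) * (9 * u ^ 2) ≤ (10 * |x|) * (10 * |x|) := mul_self_le_mul_self (by positivity) h.le
    have h4 : 0 < u ^ 4 := by positivity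
    linarith only [hS, hy2, h12, i4, i5, h3]
  have hy3 : 200 * |x| ^ 3 ≤ 117 * u ^ 6 := by
    have h1 : (20 * x ^ 2) * (10 * |x|) ≤ (13 * u ^ 4) * (9 * u ^ 2) :=
      mul_le_mul (by linarith) hy (by positivity) (by positivity)
    rw [← hy2] at h1
    linarith only [h1]
  have kC : ∀ {ε : ℤ}, ε = 1 ∨ ε = -1 → (u ^ 2 - 1) * (u ^ 2 + ε * u + 1) ∣ x ^ 2 - 1 → False := by
    intro ε hε hd
    have h1 := Int.le_of_dvd (by nlinarith only [h7, hy2]) hd
    have h2 := fb_le hu hε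
    linarith
  have kE : ∀ {ε : ℤ}, ε = 1 ∨ ε = -1 → (u ^ 2 - 1) * (u ^ 2 + ε * u + 1) ∣ p * (x - 1) → False := by
    intro ε hε hd
    have h1 := D.E_le hd
    have h2 := fb_le hu hε
    linarith
  have kF : ∀ {ε : ℤ}, ε = 1 ∨ ε = -1 → 2 * ((u ^ 2 - 1) * (u ^ 2 + ε * u + 1)) ∣ δ * (x - 1) → False := by
    intro ε hε hd
    have h1 := D.F_le hδ hd
    have h2 := fb_le hu hε
    linarith
  have key : ∀ {ε : ℤ} {X : ℤ}, 2 * ((u ^ 2 - 1) * (u ^ 2 + ε * u + 1)) ∣ X → 2 * (u ^ 2 - 1) ∣ X :=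
    fun {ε X} h => (Dvd.intro (u ^ 2 + ε * u + 1) (by ring)).trans h
  have hu1 : u ^ 2 - 1 ≠ 0 := by linarith
  have kM : 2 * (u ^ 2 - 1) ∣ (x ^ 2 + 1) * (x + 1) → 2 * (u ^ 2 - 1) ∣ p * (x ^ 2 - 1) → False := by
    intro h1 h2
    have h3 := le_abs_of_dvd (D.mixed h1 h2) (by have := D.hx; omega)
    have h4 : u ^ 2 - 2 ≤ |x| := by linarith
    have h5 : (u ^ 2 - 2) * (u ^ 2 - 2) ≤ |x| * |x| := mul_self_le_mul_self (by linarith) h4
    rw [hy2] at h5
    linarith only [hS, h12, i4, h5]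
  rcases hF 1 (Or.inl rfl) with h1 | h1 | h1 | h1 | h1
  · rcases hF (-1) (Or.inr rfl) with h2 | h2 | h2 | h2 | h2
    · have h3 := D.B_le (both_dvd (by norm_num) hu1 h1 h2)
      linarith
    · exact kC (Or.inr rfl) h2
    · exact kM (key h1) (key h2)
    · exact kE (Or.inr rfl) h2
    · exact kF (Or.inr rfl) h2
  · exact kC (Or.inl rfl) h1
  · rcases hF (-1) (Or.inr rfl) with h2 | h2 | h2 | h2 | h2
    · exact kM (key h2) (key h1)
    · exact kC (Or.inr rfl) h2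
    · have h3 := (D.D_le (both_dvd (by norm_num) hu1 h1 h2)).1
      linarith
    · exact kE (Or.inr rfl) h2
    · exact kF (Or.inr rfl) h2
  · exact kE (Or.inl rfl) h1
  · exact kF (Or.inl rfl) h1

omit D in
theorem no_L1 {z t : ℤ} (hz : 8 ≤ z) (hz9 : z ≠ 9) (h : z * (t ^ 2 - 3) = 3 - 3 * t) : False := by
  rcases (by omega : t ≤ -3 ∨ t = -2 ∨ t = -1 ∨ t = 0 ∨ t = 1 ∨ 2 ≤ t) with h1 | rfl | rfl | rfl | rfl | h1
  · have h2 : 0 ≤ t ^ 2 - 3 := by nlinarith only [h1]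
    have h3 : 8 * (t ^ 2 - 3) ≤ z * (t ^ 2 - 3) := mul_le_mul_of_nonneg_right hz h2
    nlinarith only [h, h1, h3]
  · omega
  · omega
  · omega
  · omega
  · have h2 : 0 ≤ t ^ 2 - 3 := by nlinarith only [h1]
    have h3 : 8 * (t ^ 2 - 3) ≤ z * (t ^ 2 - 3) := mul_le_mul_of_nonneg_right hz h2
    linarith only [h, h1, h2, h3]

omit D in
theorem no_L2 {z t : ℤ} (hz : 8 ≤ z) (hz9 : z ≠ 9) (h : z * (t ^ 2 - 12) = 12 - 6 * t) : False := by
  rcases (by omega : t ≤ -5 ∨ t = -4 ∨ t = -3 ∨ t = -2 ∨ t = -1 ∨ t = 0 ∨ t = 1 ∨ t = 2 ∨ t = 3 ∨ 4 ≤ t) with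
    h1 | rfl | rfl | rfl | rfl | rfl | rfl | rfl | rfl | h1
  · have h2 : 0 ≤ t ^ 2 - 12 := by nlinarith only [h1]
    have h3 : 8 * (t ^ 2 - 12) ≤ z * (t ^ 2 - 12) := mul_le_mul_of_nonneg_right hz h2
    nlinarith only [h, h1, h3]
  · omega
  · omega
  · omega
  · omega
  · omega
  · omega
  · omega
  · omega
  · have h2 : 0 ≤ t ^ 2 - 12 := by nlinarith only [h1]
    have h3 : 8 * (t ^ 2 - 12) ≤ z * (t ^ 2 - 12) := mul_le_mul_of_nonneg_right hz h2
    linarith only [h, h1, h2, h3]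

/-- a multiple of `u⁶ - 1` -/
theorem jle {X j : ℤ} (hX : X = 2 * (u ^ 6 - 1) * j) (hb : 5 * |X| ≤ 37 * u ^ 6 + u ^ 6) : |j| ≤ 3 := by
  have hu := D.hu
  have i6 : 729 ≤ u ^ 6 := by
    calc (729 : ℤ) = 3 ^ 6 := by norm_num
      _ ≤ u ^ 6 := pow_le_pow_left₀ (by norm_num) hu 6
  by_contra h
  push Not at h
  rw [hX, abs_mul, abs_of_nonneg (by linarith : 0 ≤ 2 * (u ^ 6 - 1))] at hb
  have h1 : 2 * (u ^ 6 - 1) * 4 ≤ 2 * (u ^ 6 - 1) * |j| := mul_le_mul_of_nonneg_left (by omega) (by linarith)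
  linarith

/-- `x² + x + 1 = 3 T` -/
theorem killL (hδ : δ = 1 ∨ δ = 3) (hL : x ^ 2 + x + 1 = 3 * (u ^ 4 - u ^ 2 + 1))
    (hF : ∀ ε : ℤ, ε = 1 ∨ ε = -1 → CondII p x u δ ε) : False := by
  obtain ⟨h7, hy2, hpy, h14, h15, h12, h16⟩ := D.y
  have hu := D.hu
  have h4 : 4 * x ^ 2 ≤ 13 * (u ^ 4 - u ^ 2 + 1) := by linarith
  obtain ⟨t, ht, htu⟩ : ∃ t : ℤ, 0 ≤ t ∧ u = t + 3 := ⟨u - 3, by omega, by ring⟩
  have i1 : 0 < 3 * u ^ 4 - 10 * u ^ 3 + 7 * u ^ 2 + 10 * u - 17 := by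
    rw [htu]; clear * - ht; ring_nf; positivity
  have i3 : 0 < 104 * (u ^ 4 - u ^ 3 + u - 1) - 78 * (u ^ 4 - u ^ 2 + 1) := by
    rw [htu]; clear * - ht; ring_nf; positivity
  have i7 : 0 < 10 * (u ^ 4 - u ^ 2 + 1) - 19 * u ^ 2 - 160 := by
    rw [htu]; clear * - ht; ring_nf; positivity
  have i5 : 9 ≤ u ^ 2 := by nlinarith only [hu]
  have i6 : 729 ≤ u ^ 6 := by
    calc (729 : ℤ) = 3 ^ 6 := by norm_num
      _ ≤ u ^ 6 := pow_le_pow_left₀ (by norm_num) hu 6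
  have hz9 : u ^ 2 - 1 ≠ 9 := by
    intro h
    rcases (by omega : u = 3 ∨ 4 ≤ u) with h1 | h1
    · rw [h1] at h; norm_num at h
    · nlinarith only [hu, h, h1]
  have hTu : u ^ 4 - u ^ 2 + 1 ≤ u ^ 4 := by linarith
  have hy : 10 * |x| ≤ 19 * u ^ 2 := by
    by_contra h
    push Not at h
    have h3 : (19 * u ^ 2) * (19 * u ^ 2) ≤ (10 * |x|) * (10 * |x|) := mul_self_le_mul_self (by positivity) h.le
    have h4 : 0 < u ^ 4 := by positivity
    linarith only [hL, hy2, h12, i7, i5, h3]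
  have hy3 : 40 * |x| ^ 3 ≤ 247 * u ^ 6 := by
    have h1 : (4 * x ^ 2) * (10 * |x|) ≤ (13 * u ^ 4) * (19 * u ^ 2) :=
      mul_le_mul (by linarith) hy (by positivity) (by positivity)
    rw [← hy2] at h1
    linarith only [h1]
  have kz : ∀ {ε X : ℤ}, (u ^ 2 - 1) * (u ^ 2 + ε * u + 1) ∣ X → u ^ 2 - 1 ∣ X := fun h => (dvd_mul_right _ _).trans h
  have kC : ∀ {ε : ℤ}, ε = 1 ∨ ε = -1 → (u ^ 2 - 1) * (u ^ 2 + ε * u + 1) ∣ x ^ 2 - 1 → False := by
    intro ε hε hd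
    have h1 : u ^ 2 - 1 ∣ x - 1 := by
      have : x - 1 = (u ^ 2 - 1) * (3 * u ^ 2) - (x ^ 2 - 1) := by linear_combination hL
      rw [this]
      exact dvd_sub (dvd_mul_right _ _) (kz hd)
    obtain ⟨s, hs⟩ := h1
    refine no_L1 (z := u ^ 2 - 1) (t := s) (by linarith) hz9 ?_
    have hx' : x = (u ^ 2 - 1) * s + 1 := by linarith only [hs]
    rw [hx'] at hL
    refine mul_left_cancel₀ (show u ^ 2 - 1 ≠ 0 by linarith) ?_
    linear_combination hL
  have kE : ∀ {ε : ℤ}, ε = 1 ∨ ε = -1 → (u ^ 2 - 1) * (u ^ 2 + ε * u + 1) ∣ p * (x - 1) → False := by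
    intro ε hε hd
    rcases D.pc with hp | hp
    · have h0 : u ^ 2 - 1 ∣ x * (x - 1) := by
        have h1 := kz hd
        rw [hp] at h1
        rcases abs_choice x with h2 | h2 <;> rw [h2] at h1
        · exact h1
        · rw [neg_mul, dvd_neg] at h1
          exact h1
      have h1 : u ^ 2 - 1 ∣ 2 * (x - 1) := by
        have : 2 * (x - 1) = (u ^ 2 - 1) * (3 * u ^ 2) - x * (x - 1) := by linear_combination hL
        rw [this]
        exact dvd_sub (dvd_mul_right _ _) h0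
      obtain ⟨s, hs⟩ := h1
      refine no_L2 (z := u ^ 2 - 1) (t := s) (by linarith) hz9 ?_
      refine mul_left_cancel₀ (show u ^ 2 - 1 ≠ 0 by linarith) ?_
      linear_combination 4 * hL - (2 * (x - 1) + (u ^ 2 - 1) * s + 6) * hs
    · have h1 := le_abs_of_dvd hd D.ne.2.1
      rw [abs_mul, abs_of_pos D.hp0] at h1
      have h2 : (5 * p) * |x - 1| ≤ |x| * |x - 1| := mul_le_mul_of_nonneg_right hp (abs_nonneg _)
      have h3 : |x| * (13 * |x - 1|) ≤ |x| * (14 * |x|) := mul_le_mul_of_nonneg_left h14 (abs_nonneg _)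
      have h5 := fb_le hu hε
      linarith only [hL, hy2, h12, i3, i7, i5, h1, h2, h3, h5]
  have kF : ∀ {ε : ℤ}, ε = 1 ∨ ε = -1 → 2 * ((u ^ 2 - 1) * (u ^ 2 + ε * u + 1)) ∣ δ * (x - 1) → False := by
    intro ε hε hd
    have h1 := D.F_le hδ hd
    have h2 := fb_le hu hε
    linarith
  have key : ∀ {ε : ℤ} {X : ℤ}, 2 * ((u ^ 2 - 1) * (u ^ 2 + ε * u + 1)) ∣ X → 2 * (u ^ 2 - 1) ∣ X :=
    fun {ε X} h => (Dvd.intro (u ^ 2 + ε * u + 1) (by ring)).trans h
  have hu1 : u ^ 2 - 1 ≠ 0 := by linarith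
  have kM : 2 * (u ^ 2 - 1) ∣ (x ^ 2 + 1) * (x + 1) → 2 * (u ^ 2 - 1) ∣ p * (x ^ 2 - 1) → False := by
    intro h1 h2
    have h3 := D.mixed h1 h2
    have h5 : u ^ 2 - 1 ∣ 2 := by
      have : (2 : ℤ) = x * (x + 1) - (u ^ 2 - 1) * (3 * u ^ 2) := by linear_combination -hL
      rw [this]
      exact dvd_sub (h3.mul_left _) (dvd_mul_right _ _)
    have := Int.le_of_dvd (by norm_num) h5
    linarith
  have hT73 : 73 ≤ u ^ 4 - u ^ 2 + 1 := by nlinarith only [i5]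
  rcases hF 1 (Or.inl rfl) with h1 | h1 | h1 | h1 | h1
  · rcases hF (-1) (Or.inr rfl) with h2 | h2 | h2 | h2 | h2
    · obtain ⟨j, hj⟩ := both_dvd (by norm_num) hu1 h1 h2
      have h3 := D.B_le (N := |(x ^ 2 + 1) * (x + 1)|) ((abs_dvd _ _).2 dvd_rfl)
      have hj3 := jle D hj (by linarith)
      rw [abs_le] at hj3
      have h5 : u ^ 4 - u ^ 2 + 1 ∣ 4 * j + 1 := ⟨2 * j * (u ^ 2 + 1) - 3 * x, by linear_combination hj - x * hL⟩
      have h6 := le_abs_of_dvd h5 (by omega)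
      have h8 : |4 * j + 1| ≤ 13 := by rw [abs_le]; omega
      linarith only [hT73, h6, h8]
    · exact kC (Or.inr rfl) h2
    · exact kM (key h1) (key h2)
    · exact kE (Or.inr rfl) h2
    · exact kF (Or.inr rfl) h2
  · exact kC (Or.inl rfl) h1
  · rcases hF (-1) (Or.inr rfl) with h2 | h2 | h2 | h2 | h2
    · exact kM (key h2) (key h1)
    · exact kC (Or.inr rfl) h2
    · have hbd := both_dvd (by norm_num) hu1 h1 h2
      rcases D.pc with hp | hp
      · have h0 : 2 * (u ^ 6 - 1) ∣ x * (x ^ 2 - 1) := by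
          rw [hp] at hbd
          rcases abs_choice x with h2 | h2 <;> rw [h2] at hbd
          · exact hbd
          · rw [neg_mul, dvd_neg] at hbd
            exact hbd
        obtain ⟨j, hj⟩ := h0
        have h3 : |x * (x ^ 2 - 1)| ≤ |x| ^ 3 := by
          have hx1 : 0 < x ^ 2 - 1 := by rcases D.hx with h | h <;> nlinarith only [h7, hy2, hL, hT73, h]
          rw [abs_mul, abs_of_pos hx1, ← hy2]
          linarith only [h7]
        have hj3 := jle D hj (by linarith)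
        rw [abs_le] at hj3
        have h5 : u ^ 4 - u ^ 2 + 1 ∣ 1 - x + 4 * j :=
          ⟨2 * j * (u ^ 2 + 1) - 3 * (x - 1), by linear_combination hj - (x - 1) * hL⟩
        have h8 : |1 - x + 4 * j| ≤ |x| + 13 := by
          rw [abs_le]
          have := abs_le.1 (le_refl |x|)
          constructor <;> linarith only [hj3, this.1, this.2]
        by_cases h9 : 1 - x + 4 * j = 0
        · have := D.x4
          omega
        · have h6 := le_abs_of_dvd h5 h9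
          linarith only [i7, hy, h8, h6]
      · have h3 := (D.D_le hbd).2 hp
        linarith
    · exact kE (Or.inr rfl) h2
    · exact kF (Or.inr rfl) h2
  · exact kE (Or.inl rfl) h1
  · exact kF (Or.inl rfl) h1

end two

/-- **type II** -/
theorem d4_numII {p x u a δ : ℤ} (D : TwoD p x u) (hδ : δ = 1 ∨ δ = 3) (ha : 1 ≤ a) (hodd : a % 2 = 1)
    (hT : δ * (u ^ 4 - u ^ 2 + 1) = a * (x ^ 2 + x + 1)) (hne : x ^ 2 + x + 1 ≠ u ^ 4 - u ^ 2 + 1)
    (hF : ∀ ε : ℤ, ε = 1 ∨ ε = -1 → CondII p x u δ ε) : False := by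
  have hQ : 0 < x ^ 2 + x + 1 := by rcases D.hx with h | h <;> nlinarith only [h, _root_.sq_nonneg (x : ℤ)]
  rcases hδ with rfl | rfl
  · rcases (by omega : a = 1 ∨ 3 ≤ a) with rfl | h3
    · exact hne (by linarith)
    · refine killS D (Or.inl rfl) ?_ hF
      have : 3 * (x ^ 2 + x + 1) ≤ a * (x ^ 2 + x + 1) := mul_le_mul_of_nonneg_right h3 hQ.le
      linarith
  · rcases (by omega : a = 1 ∨ a = 3 ∨ 5 ≤ a) with rfl | rfl | h3
    · exact killL D (Or.inr rfl) (by linarith) hF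
    · exact hne (by linarith)
    · refine killS D (Or.inr rfl) ?_ hF
      have : 5 * (x ^ 2 + x + 1) ≤ a * (x ^ 2 + x + 1) := mul_le_mul_of_nonneg_right h3 hQ.le
      linarith

end Cfsg.Agent.R2.Spec.X3.H18
end

-- part: R2/Spec/X3/PE/H18/TD4
section
/-!
# Box X3 of S3435, packet P-E: row `³D₄(u)` (helper18)
-/

set_option autoImplicit false
set_option linter.unusedVariables false
set_option linter.unusedSectionVars false

namespace Cfsg.Agent.R2.Spec.X3.H18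

open Cfsg Cfsg.Agent.R2.Spec.X3
open Cfsg.Agent.R2.Spec.X4.H18 (nc cop_int D4Dat d4Dat)

universe w

theorem d4c {u : ℕ} (hu : 1 ≤ u) : ((u ^ 4 - u ^ 2 + 1 : ℕ) : ℤ) = (u : ℤ) ^ 4 - u ^ 2 + 1 := by
  have h3 : u ^ 2 ≤ u ^ 4 := Nat.pow_le_pow_right hu (by norm_num)
  push_cast [h3]; rfl

theorem d4cA {u : ℕ} (hu : 1 ≤ u) : (((u ^ 3 - 1) * (u + 1) : ℕ) : ℤ) = ((u : ℤ) ^ 2 - 1) * (u ^ 2 + 1 * u + 1) := by
  have h3u : 1 ≤ u ^ 3 := Nat.one_le_pow _ _ hu
  push_cast [h3u]; ring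

theorem d4cB {u : ℕ} (hu : 1 ≤ u) : (((u ^ 3 + 1) * (u - 1) : ℕ) : ℤ) = ((u : ℤ) ^ 2 - 1) * (u ^ 2 + (-1) * u + 1) := by
  push_cast [hu]; ring

section

variable {p M : ℕ} {x : ℤ} {S : Type*} [Group S] [Finite S] {v u : ℕ}

theorem d4_r (h : Cand p x M S) (D : D4Dat v u S) {r : ℕ} (hr : r.Prime) (hrM : r ∣ M) : (r : ℤ) ∣ (u : ℤ) ^ 4 - u ^ 2 + 1 := by
  refine D.near r hr (h.prime_facts hr hrM).1 (h.dvd_card hrM) ?_
  rintro ⟨y, hy⟩
  exact h.not_two_dvd hr hrM (g := y) (by rw [hy]; exact dvd_mul_left _ _) (by rw [hy]; exact dvd_mul_right _ _)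

theorem d4_M (h : Cand p x M S) (D : D4Dat v u S) (hu : 2 ≤ u) : M ∣ u ^ 4 - u ^ 2 + 1 := by
  have hc : (M : ℤ) ∣ (Nat.card S : ℕ) := by
    obtain ⟨y, hy⟩ := h.elt
    exact Int.natCast_dvd_natCast.2 (hy ▸ orderOf_dvd_natCard y)
  rw [D.card] at hc
  have h2 : 1 ≤ u ^ 2 := Nat.one_le_pow _ _ (by omega)
  have h6 : 1 ≤ u ^ 6 := Nat.one_le_pow _ _ (by omega)
  push_cast [h2, h6] at hc
  have e : (u : ℤ) ^ 12 * (u ^ 2 - 1) * (u ^ 6 - 1) * (u ^ 8 + u ^ 4 + 1) =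
      (u ^ 12 * ((u ^ 2 - 1) * ((u ^ 6 - 1) * (u ^ 4 + u ^ 2 + 1)))) * (u ^ 4 - u ^ 2 + 1) := by ring
  rw [e] at hc
  have key : ∀ {P : ℤ} (α β κ : ℤ), (κ = 1 ∨ κ = 2 ∨ κ = 3 ∨ κ = 6) → α * ((u : ℤ) ^ 4 - u ^ 2 + 1) + β * P = κ →
      IsCoprime (M : ℤ) P := fun α β κ hκ hab => cop_int fun r hr hrM hd =>
        nc hr (r5 h hr hrM) α β κ hκ hab (d4_r h D hr hrM) hd
  have c0 : IsCoprime (M : ℤ) (u : ℤ) := key 1 (-((u : ℤ) ^ 3 - u)) 1 (by norm_num) (by ring)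
  have c1 : IsCoprime (M : ℤ) ((u : ℤ) ^ 2 - 1) := key 1 (-(u : ℤ) ^ 2) 1 (by norm_num) (by ring)
  have c2 : IsCoprime (M : ℤ) ((u : ℤ) ^ 6 - 1) := key ((u : ℤ) ^ 2 + 1) (-1) 2 (by norm_num) (by ring)
  have c3 : IsCoprime (M : ℤ) ((u : ℤ) ^ 4 + u ^ 2 + 1) :=
    key (((u : ℤ) ^ 2 + 1)) (-((u : ℤ) ^ 2 - 1)) 2 (by norm_num) (by ring)
  have h1 := (c0.pow_right.mul_right (c1.mul_right (c2.mul_right c3))).dvd_of_dvd_mul_left hc
  rw [← d4c (by omega)] at h1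
  exact Int.natCast_dvd_natCast.1 h1

/-- **the row** -/
theorem d4_main (h : Cand p x M S) (D : D4Dat v u S) (hpu : ¬ p ∣ u) : False := by
  have hu2 : 2 ≤ u := by
    obtain ⟨f, hf, rfl⟩ := D.pw
    exact D.vp.two_le.trans (Nat.le_self_pow (by omega) v)
  have hM := d4_M h D hu2
  have hM13 := h.M_ge
  rcases (by omega : u = 2 ∨ 3 ≤ u) with hu | hu
  · -- `u = 2`
    rw [hu] at hM
    norm_num at hM
    have hM' := Nat.le_of_dvd (by norm_num) hM
    have o7 : ∃ y : S, orderOf y = 7 := ord_dvd D.exA (by rw [hu]; norm_num)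
    rcases small_M h with ⟨h1, -, h2⟩ | ⟨-, h1, -⟩ | ⟨h1, -⟩
    · subst h1 h2
      obtain ⟨y, hy⟩ := o7
      have hs := h.spec y
      rw [hy, Sp, cc_one (by norm_num)] at hs
      norm_num at hs
    · omega
    · omega
  · have hu0 : 1 ≤ u := by omega
    have huz : (3 : ℤ) ≤ u := by exact_mod_cast hu
    have hcA : Nat.Coprime ((u ^ 3 - 1) * (u + 1)) M := Cand.cop_of fun r hr hrM hd =>
      nc (T := (u : ℤ) ^ 4 - u ^ 2 + 1) (D := (u : ℤ) ^ 6 - 1) hr (r5 h hr hrM) ((u : ℤ) ^ 2 + 1) (-1) 2 (by norm_num)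
        (by ring) (d4_r h D hr hrM) ((Int.natCast_dvd_natCast.2 hd).trans (by
          rw [d4cA hu0]; exact ⟨(u : ℤ) ^ 2 - u + 1, by ring⟩))
    have hcB : Nat.Coprime ((u ^ 3 + 1) * (u - 1)) M := Cand.cop_of fun r hr hrM hd =>
      nc (T := (u : ℤ) ^ 4 - u ^ 2 + 1) (D := (u : ℤ) ^ 6 - 1) hr (r5 h hr hrM) ((u : ℤ) ^ 2 + 1) (-1) 2 (by norm_num)
        (by ring) (d4_r h D hr hrM) ((Int.natCast_dvd_natCast.2 hd).trans (by
          rw [d4cB hu0]; exact ⟨(u : ℤ) ^ 2 + u + 1, by ring⟩))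
    obtain ⟨a, hTa, hodd, ha1, haI, haII⟩ := h.tor D.ex12 hM
    have hTz : (u : ℤ) ^ 4 - u ^ 2 + 1 = a * M := by
      rw [← d4c hu0, hTa]; push_cast; ring
    have ha1z : (1 : ℤ) ≤ a := by exact_mod_cast ha1
    have hoddz : (a : ℤ) % 2 = 1 := by exact_mod_cast hodd
    have hp0 : (0 : ℤ) < p := by exact_mod_cast h.hp.pos
    rcases h.typ with hI | ⟨δ, hII⟩
    · obtain ⟨h1, h2, h3⟩ := hI
      have hT : 2 * ((u : ℤ) ^ 4 - u ^ 2 + 1) = a * (x ^ 2 + 1) := by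
        rw [hTz]; linear_combination (a : ℤ) * h3
      have hpc : (p : ℤ) = x ∨ 5 * (p : ℤ) ≤ x := by
        have := h.p_cases
        rwa [abs_of_nonneg (by omega : 0 ≤ x)] at this
      refine d4_numI huz h2 ha1z hoddz hT hp0 hpc h.p_dvd ?_
      rintro ε (rfl | rfl)
      · rw [← d4cA hu0]
        exact h.freeI D.exA hcA h1
      · rw [← d4cB hu0]
        exact h.freeI D.exB hcB h1
    · have hII' := hII
      obtain ⟨h1, h2, h3, h4⟩ := hII
      have hT : δ * ((u : ℤ) ^ 4 - u ^ 2 + 1) = a * (x ^ 2 + x + 1) := by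
        rw [hTz]; linear_combination (a : ℤ) * h4
      have hδ : δ = 1 ∨ δ = 3 := by rcases h3 with ⟨h3, -⟩ | ⟨h3, -⟩ <;> omega
      refine d4_numII (p := (p : ℤ)) (u := (u : ℤ)) ⟨huz, h2, h1, hp0, h.p_dvd, h.p_cases⟩ hδ ha1z hoddz hT ?_ ?_
      · intro he
        have h5 : (x + u ^ 2) * (x - (u - 1) * (u + 1)) = 0 := by linear_combination he
        rcases mul_eq_zero.1 h5 with h6 | h6
        · have h7 : (p : ℤ) ∣ (u : ℤ) ^ 2 := by
            have h8 := h.p_dvd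
            have e : x = -(u : ℤ) ^ 2 := by linarith only [h6]
            rwa [e, dvd_neg] at h8
          have h8 : p ∣ u ^ 2 := by exact_mod_cast h7
          exact hpu (h.hp.dvd_of_dvd_pow h8)
        · obtain ⟨k, hk, hx⟩ := h.ex
          have h7 : x = (((u - 1) * (u + 1) : ℕ) : ℤ) := by
            push_cast [hu0]; linarith only [h6]
          have h8 : (u - 1) * (u + 1) = p ^ k := by
            rw [← hx, h7, Int.natAbs_natCast]
          have k1 : p ∣ u - 1 := by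
            obtain ⟨j, hj, hj'⟩ := (Nat.dvd_prime_pow h.hp).1 (Dvd.intro _ h8)
            rw [hj']
            refine dvd_pow_self p ?_
            rintro rfl
            rw [pow_zero] at hj'
            omega
          have k2 : p ∣ u + 1 := by
            obtain ⟨j, hj, hj'⟩ := (Nat.dvd_prime_pow h.hp).1 (Dvd.intro_left _ h8)
            rw [hj']
            refine dvd_pow_self p ?_
            rintro rfl
            rw [pow_zero] at hj'
            omega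
          have k3 : p ∣ 2 := by
            have := Nat.dvd_sub k2 k1
            rwa [show u + 1 - (u - 1) = 2 by omega] at this
          have := Nat.le_of_dvd (by norm_num) k3
          have := h.h5
          omega
      · rintro ε (rfl | rfl)
        · rw [CondII, ← d4cA hu0]
          exact h.freeII D.exA hcA hII'
        · rw [CondII, ← d4cB hu0]
          exact h.freeII D.exB hcB hII'

end

/-- **Row `³D₄(u)`.** -/
theorem row_3D4 {K : Type w} [Field K] [Fintype K] {u : ℕ} (hu : IsPrimePow u) (hK : Fintype.card K = u ^ 3)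
    {p M : ℕ} {x : ℤ} (hpF : (p : K) ≠ 0) (h : Cand p x M ↥(Lie.twistedD4 K u)) : False := by
  have hpc := not_dvd_card h.hp hpF
  rw [Nat.card_eq_fintype_card, hK] at hpc
  obtain ⟨v, f, hv, hf, rfl⟩ := hu
  have hv := hv.nat_prime
  have : CharP K v := by
    obtain ⟨v', f', i, hv', hf', hc'⟩ := exists_char K
    rw [hK, ← pow_mul] at hc'
    have h1 : v ∣ v' ^ f' := by rw [← hc']; exact dvd_pow_self v (by omega)
    have h2 := (Nat.prime_dvd_prime_iff_eq hv hv').1 (hv.dvd_of_dvd_pow h1)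
    rw [h2]; exact i
  exact d4_main h (d4Dat hv hK hf) fun h1 => hpc (h1.trans (dvd_pow_self _ (by norm_num)))

end Cfsg.Agent.R2.Spec.X3.H18
end

private theorem dce_c64f2d76ce1e : _root_.True := by
  try have : _root_.True := by simp only [_root_.Cfsg.Agent.R2.Spec.X3.H18.CondII.eq_1]
  exact _root_.True.intro
end
end
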